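import Mathlib

/-!
# Two counting arguments for 2-transitive groups of degree `p ^ 2 + 1`
-/

set_option autoImplicit false
set_option linter.style.haveILetI false

namespace Cfsg.Agent.TwoTransSq

open Finset

variable {Ω : Type*} [Fintype Ω] [DecidableEq Ω]

/-- A linear space on `p ^ 2 + 1` points with lines of constant size `k`. -/
theorem design_dvd {p k : ℕ} (hΩ : Fintype.card Ω = p ^ 2 + 1) (F : Ω → Ω → Finset Ω)
    (hcard : ∀ x y, x ≠ y → (F x y).card = k)
    (hl : ∀ x y, x ≠ y → x ∈ F x y) (hr : ∀ x y, x ≠ y → y ∈ F x y)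
    (hsub : ∀ x y z, x ≠ y → z ∈ F x y → z ≠ x → F x z = F x y)
    (hsymm : ∀ x y, x ≠ y → F x y = F y x) :
    (k - 1) ∣ p ^ 2 ∧ k * (k - 1) ∣ (p ^ 2 + 1) * p ^ 2 := by
  classical
  constructor
  · obtain ⟨x⟩ : Nonempty Ω := Fintype.card_pos_iff.1 (by omega)
    have h := card_eq_sum_card_fiberwise (f := fun y => F x y)
      (s := univ.erase x) (t := (univ.erase x).image (fun y => F x y))
      (fun y hy => mem_image_of_mem _ hy)
    rw [card_erase_of_mem (mem_univ _), card_univ, hΩ, Nat.add_sub_cancel] at h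
    rw [h]
    refine dvd_sum fun l hlm => dvd_of_eq ?_
    obtain ⟨y, hy, rfl⟩ := mem_image.1 hlm
    have hy' : x ≠ y := (ne_of_mem_erase hy).symm
    rw [← hcard x y hy', ← card_erase_of_mem (hl x y hy')]
    congr 1
    ext z
    simp only [mem_erase, mem_filter, mem_univ, and_true]
    exact ⟨fun ⟨h1, h2⟩ => ⟨h1, hsub x y z hy' h2 h1⟩,
      fun ⟨h1, h2⟩ => ⟨h1, h2 ▸ hr x z (Ne.symm h1)⟩⟩
  · have h := card_eq_sum_card_fiberwise (f := fun q : Ω × Ω => F q.1 q.2)
      (s := (univ : Finset Ω).offDiag) (t := (univ : Finset Ω).offDiag.image fun q => F q.1 q.2)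
      (fun q hq => mem_image_of_mem _ hq)
    rw [offDiag_card, card_univ, hΩ] at h
    have h' : (p ^ 2 + 1) * (p ^ 2 + 1) - (p ^ 2 + 1) = (p ^ 2 + 1) * p ^ 2 := by
      rw [Nat.mul_add, Nat.mul_one, Nat.add_sub_cancel]
    rw [h'] at h
    rw [h]
    refine dvd_sum fun l hlm => dvd_of_eq ?_
    obtain ⟨⟨u, v⟩, huv, rfl⟩ := mem_image.1 hlm
    have huv' : u ≠ v := (mem_offDiag.1 huv).2.2
    have hkey : (univ : Finset Ω).offDiag.filter (fun q => F q.1 q.2 = F u v)
        = (F u v).offDiag := by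
      ext ⟨x, y⟩
      simp only [mem_filter, mem_offDiag, mem_univ, true_and]
      constructor
      · rintro ⟨hxy, he⟩
        exact ⟨he ▸ hl x y hxy, he ▸ hr x y hxy, hxy⟩
      · rintro ⟨hx, hy, hxy⟩
        refine ⟨hxy, ?_⟩
        by_cases hxu : x = u
        · subst hxu
          exact hsub x v y huv' hy (Ne.symm hxy)
        · have h1 : F x u = F u v := by rw [hsymm x u hxu]; exact hsub u v x huv' hx hxu
          rw [← h1]
          exact hsub x u y hxu (h1 ▸ hy) (Ne.symm hxy)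
    rw [hkey, offDiag_card, hcard u v huv', Nat.mul_sub, Nat.mul_one]

/-- No linear space on `p ^ 2 + 1` points has lines of size `p + 1`. -/
theorem no_design {p : ℕ} (hp : p.Prime) (hΩ : Fintype.card Ω = p ^ 2 + 1)
    (F : Ω → Ω → Finset Ω) (hcard : ∀ x y, x ≠ y → (F x y).card = p + 1)
    (hl : ∀ x y, x ≠ y → x ∈ F x y) (hr : ∀ x y, x ≠ y → y ∈ F x y)
    (hsub : ∀ x y z, x ≠ y → z ∈ F x y → z ≠ x → F x z = F x y)
    (hsymm : ∀ x y, x ≠ y → F x y = F y x) : False := by
  obtain ⟨-, h⟩ := design_dvd hΩ F hcard hl hr hsub hsymm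
  rw [Nat.add_sub_cancel] at h
  have h1 : p + 1 ∣ (p ^ 2 + 1) * p := by
    apply Nat.dvd_of_mul_dvd_mul_right hp.pos
    rw [mul_assoc, ← sq]
    exact h
  have h2 : ((p : ℤ) + 1) ∣ 2 := by
    have h3 : ((p : ℤ) + 1) ∣ ((p : ℤ) ^ 2 + 1) * p := by exact_mod_cast h1
    have h4 : ((p : ℤ) + 1) ∣ ((p : ℤ) ^ 2 + 1) * p + 2 := ⟨(p : ℤ) ^ 2 - p + 2, by ring⟩
    exact (dvd_add_right h3).1 h4
  have := Int.le_of_dvd two_pos h2
  have := hp.two_le
  omega

/-- A linear space whose lines have at least three points and at most one line can only be the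
trivial one. -/
theorem design_eq_univ {p k : ℕ} (hp : p.Prime) (hΩ : Fintype.card Ω = p ^ 2 + 1)
    (F : Ω → Ω → Finset Ω) (hk : 3 ≤ k) (hcard : ∀ x y, x ≠ y → (F x y).card = k)
    (hl : ∀ x y, x ≠ y → x ∈ F x y) (hr : ∀ x y, x ≠ y → y ∈ F x y)
    (hsub : ∀ x y z, x ≠ y → z ∈ F x y → z ≠ x → F x z = F x y)
    (hsymm : ∀ x y, x ≠ y → F x y = F y x) {x y : Ω} (hxy : x ≠ y) : F x y = univ := by
  obtain ⟨h, -⟩ := design_dvd hΩ F hcard hl hr hsub hsymm
  obtain ⟨i, hi, h1⟩ := (Nat.dvd_prime_pow hp).1 h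
  apply eq_univ_of_card
  rw [hcard x y hxy, hΩ]
  interval_cases i
  · simp at h1; omega
  · rw [pow_one] at h1
    exact (no_design hp hΩ F (fun x y hxy => by rw [hcard x y hxy]; omega) hl hr hsub hsymm).elim
  · omega

variable {G : Type*} [Group G] [MulAction G Ω]

/-- If every pair of points is exactly the fixed point set of an involution, the pair stabilisers
are large. -/
theorem involution_count [Finite G] {m : ℕ}
    (hinv : ∀ x y : Ω, x ≠ y → ∃ u : G, u * u = 1 ∧ ∀ z : Ω, u • z = z ↔ z = x ∨ z = y)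
    (hm : ∀ z w : Ω, z ≠ w → Nat.card {g : G // g • z = z ∧ g • w = w} ≤ m)
    (hn : 2 ≤ Fintype.card Ω) : Fintype.card Ω - 2 ≤ 2 * m := by
  classical
  haveI := Fintype.ofFinite G
  set n := Fintype.card Ω with hndef
  let U : Finset G := univ.filter fun u => u * u = 1 ∧ (univ.filter fun z : Ω => u • z = z).card = 2
  let P : Finset (Ω × Ω) := (univ : Finset Ω).offDiag
  -- every pair comes from an element of `U`
  have h1 : P.card ≤ U.card * 2 := by
    refine le_trans (card_le_card (t := U.biUnion fun u =>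
      (univ.filter fun z : Ω => u • z = z).offDiag) fun q hq => ?_) ?_
    · obtain ⟨u, hu, hfix⟩ := hinv q.1 q.2 (mem_offDiag.1 hq).2.2
      have he : (univ.filter fun z : Ω => u • z = z) = {q.1, q.2} := by
        ext z; simp [hfix z]
      refine mem_biUnion.2 ⟨u, mem_filter.2 ⟨mem_univ _, hu, ?_⟩, ?_⟩
      · rw [he, card_pair (mem_offDiag.1 hq).2.2]
      · rw [he, mem_offDiag]
        exact ⟨by simp, by simp, (mem_offDiag.1 hq).2.2⟩
    · refine card_biUnion_le_card_mul _ _ _ fun u hu => ?_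
      rw [offDiag_card, (mem_filter.1 hu).2.2]
  -- count the moved pairs
  let M : G → Finset (Ω × Ω) := fun u =>
    (univ.filter fun z : Ω => u • z ≠ z).image fun z => (z, u • z)
  have hM : ∀ u ∈ U, (M u).card = n - 2 := by
    intro u hu
    rw [card_image_of_injective _ (fun z z' h => congrArg Prod.fst h)]
    have := card_filter_add_card_filter_not (s := (univ : Finset Ω)) (fun z : Ω => u • z = z)
    rw [card_univ, (mem_filter.1 hu).2.2] at this
    simp only [ne_eq]
    omega
  have h2 : U.card * (n - 2) ≤ P.card * m := by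
    have hswap := sum_card_bipartiteAbove_eq_sum_card_bipartiteBelow (s := U) (t := P)
      (fun u q => q ∈ M u)
    have hl' : ∑ u ∈ U, (P.bipartiteAbove (fun u q => q ∈ M u) u).card = U.card * (n - 2) := by
      rw [sum_congr rfl (fun u hu => ?_), sum_const, smul_eq_mul]
      rw [← hM u hu]
      congr 1
      ext q
      simp only [mem_bipartiteAbove, and_iff_right_iff_imp]
      intro hq
      obtain ⟨z, hz, rfl⟩ := mem_image.1 hq
      exact mem_offDiag.2 ⟨mem_univ _, mem_univ _, Ne.symm (mem_filter.1 hz).2⟩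
    rw [← hl', hswap]
    refine sum_le_card_nsmul _ _ _ fun q hq => ?_
    obtain ⟨z, w⟩ := q
    have hzw : z ≠ w := (mem_offDiag.1 hq).2.2
    rcases (U.bipartiteBelow (fun u q => q ∈ M u) (z, w)).eq_empty_or_nonempty with he | ⟨u₀, hu₀⟩
    · rw [he]; simp
    · have hsw : ∀ u ∈ U.bipartiteBelow (fun u q => q ∈ M u) (z, w), u • z = w ∧ u • w = z := by
        intro u hu
        obtain ⟨hu1, hu2⟩ := (mem_bipartiteBelow _).1 hu
        obtain ⟨z', -, he⟩ := mem_image.1 hu2
        obtain ⟨rfl, rfl⟩ := Prod.mk.inj he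
        exact ⟨rfl, by rw [← mul_smul, (mem_filter.1 hu1).2.1, one_smul]⟩
      calc _ ≤ (univ.filter fun g : G => g • z = z ∧ g • w = w).card := by
            refine card_le_card_of_injOn (fun u => u₀ * u) (fun u hu => ?_)
              (fun u _ v _ h => mul_left_cancel h)
            simp only [coe_filter, mem_univ, true_and, Set.mem_ofPred_eq]
            rw [mul_smul, mul_smul, (hsw u hu).1, (hsw u hu).2]
            exact ⟨(hsw u₀ hu₀).2, (hsw u₀ hu₀).1⟩
        _ ≤ m := by
            rw [← Fintype.card_subtype, ← Nat.card_eq_fintype_card]; exact hm z w hzw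
  have hP : 0 < P.card := by
    rw [offDiag_card, card_univ, ← hndef]
    have : n * 2 ≤ n * n := Nat.mul_le_mul_left _ hn
    omega
  have : P.card * (n - 2) ≤ P.card * (2 * m) := by
    calc P.card * (n - 2) ≤ U.card * 2 * (n - 2) := Nat.mul_le_mul_right _ h1
      _ = 2 * (U.card * (n - 2)) := by ring
      _ ≤ 2 * (P.card * m) := Nat.mul_le_mul_left _ h2
      _ = P.card * (2 * m) := by ring
  exact Nat.le_of_mul_le_mul_left this hP

end Cfsg.Agent.TwoTransSq
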