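import Mathlib
import Cfsg.Agent.TwoTransSq.Design

/-!
# Imprimitive point stabilisers in 2-transitive groups of degree `p ^ 2 + 1`
-/

set_option autoImplicit false
set_option linter.style.haveILetI false

namespace Cfsg.Agent.TwoTransSq

open Finset

/-- The setting: a faithful 2-transitive group on `p ^ 2 + 1` points, and for every point `x` a
partition of the other points into classes `blk x y` of size `p`, preserved by the group. -/
structure Setup (G Ω : Type*) [Group G] [MulAction G Ω] [Fintype Ω] [DecidableEq Ω] (p : ℕ) where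
  blk : Ω → Ω → Finset Ω
  prime : p.Prime
  card_eq : Fintype.card Ω = p ^ 2 + 1
  faithful : ∀ g : G, (∀ z : Ω, g • z = z) → g = 1
  two : ∀ {x y u v : Ω}, x ≠ y → u ≠ v → ∃ g : G, g • x = u ∧ g • y = v
  mem_self : ∀ {x y : Ω}, y ≠ x → y ∈ blk x y
  ne_of_mem : ∀ {x y z : Ω}, y ≠ x → z ∈ blk x y → z ≠ x
  eq_of_mem : ∀ {x y z : Ω}, y ≠ x → z ∈ blk x y → blk x z = blk x y
  card_blk : ∀ {x y : Ω}, y ≠ x → (blk x y).card = p
  smul_mem : ∀ (g : G) {x y z : Ω}, z ∈ blk x y → g • z ∈ blk (g • x) (g • y)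

variable {G Ω : Type*} [Group G] [MulAction G Ω] [Fintype Ω] [DecidableEq Ω] {p : ℕ}

/-- The fixed points of a set of group elements. -/
def fixOf (s : Set G) [∀ z : Ω, Decidable (∀ u ∈ s, u • z = z)] : Finset Ω :=
  univ.filter fun z => ∀ u ∈ s, u • z = z

namespace Setup

variable (D : Setup G Ω p)

theorem smul_blk (g : G) (x y : Ω) : (D.blk x y).map (MulAction.toPerm g).toEmbedding =
    D.blk (g • x) (g • y) := by
  ext z
  simp only [mem_map, Equiv.coe_toEmbedding, MulAction.toPerm_apply]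
  constructor
  · rintro ⟨w, hw, rfl⟩; exact D.smul_mem g hw
  · intro hz
    refine ⟨g⁻¹ • z, ?_, smul_inv_smul g z⟩
    simpa using D.smul_mem g⁻¹ hz

/-- The kernel of the point stabiliser on the classes at that point. -/
def ker (D : Setup G Ω p) (x : Ω) : Subgroup G where
  carrier := {g | g • x = x ∧ ∀ y, y ≠ x → g • y ∈ D.blk x y}
  one_mem' := ⟨one_smul _ _, fun y hy => by rw [one_smul]; exact D.mem_self hy⟩
  mul_mem' := by
    rintro g h ⟨hg1, hg2⟩ ⟨hh1, hh2⟩
    refine ⟨by rw [mul_smul, hh1, hg1], fun y hy => ?_⟩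
    rw [mul_smul, ← D.eq_of_mem hy (hh2 y hy)]
    exact hg2 _ (D.ne_of_mem hy (hh2 y hy))
  inv_mem' := by
    rintro g ⟨hg1, hg2⟩
    have h1 : g⁻¹ • x = x := inv_smul_eq_iff.2 hg1.symm
    refine ⟨h1, fun y hy => ?_⟩
    have hy' : g⁻¹ • y ≠ x := fun h => hy (by rw [← hg1, ← h, smul_inv_smul])
    have h2 := hg2 _ hy'
    rw [smul_inv_smul] at h2
    rw [D.eq_of_mem hy' h2]
    exact D.mem_self hy'

theorem mem_ker {x : Ω} {g : G} :
    g ∈ D.ker x ↔ g • x = x ∧ ∀ y, y ≠ x → g • y ∈ D.blk x y := Iff.rfl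

theorem conj_mem_ker (g : G) {x : Ω} {n : G} (hn : n ∈ D.ker x) :
    g * n * g⁻¹ ∈ D.ker (g • x) := by
  refine ⟨by rw [mul_smul, mul_smul, inv_smul_smul, hn.1], fun y hy => ?_⟩
  have hy' : g⁻¹ • y ≠ x := fun h => hy (by rw [← h, smul_inv_smul])
  have := D.smul_mem g (hn.2 _ hy')
  rw [smul_inv_smul] at this
  rwa [mul_smul, mul_smul]

include D in
theorem two' {a y z : Ω} (hy : y ≠ a) (hz : z ≠ a) : ∃ g : G, g • a = a ∧ g • y = z :=
  D.two hy.symm hz.symm

/-- An element of `p`-power order fixes a point whose orbit stays in a set with fewer than `p`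
points. -/
theorem fixed_of_small {α : Type*} [MulAction G α] (hp : p.Prime) {u : G} {t : ℕ}
    (hu : u ^ p ^ t = 1) {s : Finset α} (hs : ∀ z ∈ s, u • z ∈ s) (hcard : s.card < p)
    {z : α} (hz : z ∈ s) : u • z = z := by
  classical
  have hper : Function.minimalPeriod (fun w : α => u • w) z ∣ p ^ t := by
    apply Function.IsPeriodicPt.minimalPeriod_dvd
    show (fun w : α => u • w)^[p ^ t] z = z
    rw [smul_iterate]
    simp [hu]
  obtain ⟨i, -, hi⟩ := (Nat.dvd_prime_pow hp).1 hper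
  have hmem : ∀ j : ℕ, (fun w : α => u • w)^[j] z ∈ s := by
    intro j
    induction j with
    | zero => exact hz
    | succ j ih => rw [Function.iterate_succ_apply']; exact hs _ ih
  have hle : Function.minimalPeriod (fun w : α => u • w) z ≤ s.card := by
    rw [← Finset.card_range (Function.minimalPeriod (fun w : α => u • w) z)]
    refine card_le_card_of_injOn (fun j => (fun w : α => u • w)^[j] z) (fun j _ => hmem j) ?_
    rw [coe_range]
    exact Function.iterate_injOn_Iio_minimalPeriod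
  have hi0 : i = 0 := by
    by_contra h
    have : p ≤ p ^ i := Nat.le_self_pow h p
    omega
  rw [hi0, pow_zero] at hi
  exact Function.minimalPeriod_eq_one_iff_isFixedPt.1 hi

include D in
/-- Equivariant families of sets: if one contains another, they agree. -/
theorem fam_eq [Finite G] (S : Ω → Ω → Set G)
    (hconj : ∀ (g : G) (x y : Ω) (u : G), u ∈ S x y → g * u * g⁻¹ ∈ S (g • x) (g • y))
    {x y z w : Ω} (hxy : x ≠ y) (hzw : z ≠ w) (h : S x y ⊆ S z w) : S x y = S z w := by
  refine Set.eq_of_subset_of_ncard_le h ?_ (Set.toFinite _)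
  obtain ⟨g, h1, h2⟩ := D.two hzw hxy
  exact Set.ncard_le_ncard_of_injOn (fun u => g * u * g⁻¹)
    (fun u hu => by
      have := hconj g z w u hu
      rwa [h1, h2] at this)
    (fun u _ v _ huv => mul_left_cancel (mul_right_cancel huv)) (Set.toFinite _)

include D in
/-- Symmetric equivariant families of stabilising sets with a third fixed point are trivial. -/
theorem fam_trivial [Finite G] (S : Ω → Ω → Set G)
    (hconj : ∀ (g : G) (x y : Ω) (u : G), u ∈ S x y → g * u * g⁻¹ ∈ S (g • x) (g • y))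
    (hfix : ∀ x y, x ≠ y → ∀ u ∈ S x y, u • x = x ∧ u • y = y)
    (hmono : ∀ x y z : Ω, x ≠ y → z ≠ x → (∀ u ∈ S x y, u • z = z) → S x y ⊆ S x z)
    {a b c : Ω} (hab : a ≠ b) (hca : c ≠ a) (hcb : c ≠ b) (hc : ∀ u ∈ S a b, u • c = c)
    (hsymm : ∀ z : Ω, (∀ u ∈ S a b, u • z = z) ↔ ∀ u ∈ S b a, u • z = z) :
    ∀ u ∈ S a b, u = 1 := by
  classical
  have hconj' : ∀ (g : G) (x y : Ω), S (g • x) (g • y) = (fun u => g * u * g⁻¹) '' S x y := by
    intro g x y
    ext u
    constructor
    · intro hu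
      refine ⟨g⁻¹ * u * g, ?_, by group⟩
      simpa using hconj g⁻¹ _ _ u hu
    · rintro ⟨v, hv, rfl⟩; exact hconj g x y v hv
  let F : Ω → Ω → Finset Ω := fun x y => fixOf (S x y)
  have hF : ∀ x y z, z ∈ F x y ↔ ∀ u ∈ S x y, u • z = z := fun x y z => by simp [F, fixOf]
  have hFsmul : ∀ (g : G) x y z, z ∈ F (g • x) (g • y) ↔ g⁻¹ • z ∈ F x y := by
    intro g x y z
    simp [hF, hconj' g x y, mul_smul, smul_eq_iff_eq_inv_smul]
  have hk : ∀ x y, x ≠ y → (F x y).card = (F a b).card := by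
    intro x y hxy
    obtain ⟨g, rfl, rfl⟩ := D.two hab hxy
    refine Finset.card_bij (fun z _ => g⁻¹ • z) (fun z hz => (hFsmul g a b z).1 hz)
      (fun z _ z' _ h => (MulAction.injective g⁻¹) h) (fun z hz => ⟨g • z, ?_, inv_smul_smul g z⟩)
    rw [hFsmul, inv_smul_smul]; exact hz
  have hsymmF : ∀ x y, x ≠ y → F x y = F y x := by
    intro x y hxy
    obtain ⟨g, rfl, rfl⟩ := D.two hab hxy
    ext z
    rw [hFsmul, hFsmul, hF, hF]
    exact hsymm _
  have hsub : ∀ x y z, x ≠ y → z ∈ F x y → z ≠ x → F x z = F x y := by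
    intro x y z hxy hz hzx
    have h := hmono x y z hxy hzx ((hF x y z).1 hz)
    have he := D.fam_eq S hconj hxy hzx.symm h
    ext w
    rw [hF, hF, he]
  have hl : ∀ x y, x ≠ y → x ∈ F x y := fun x y hxy =>
    (hF x y x).2 fun u hu => (hfix x y hxy u hu).1
  have hr : ∀ x y, x ≠ y → y ∈ F x y := fun x y hxy =>
    (hF x y y).2 fun u hu => (hfix x y hxy u hu).2
  have h3 : 3 ≤ (F a b).card := by
    refine le_trans (le_of_eq ?_) (card_le_card (s := {a, b, c}) ?_)
    · rw [card_insert_of_notMem (by simp [hab, hca.symm]), card_pair hcb.symm]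
    · intro z hz
      simp only [mem_insert, mem_singleton] at hz
      rcases hz with rfl | rfl | rfl
      · exact hl _ _ hab
      · exact hr _ _ hab
      · exact (hF _ _ _).2 hc
  have huniv := design_eq_univ D.prime D.card_eq F h3 hk hl hr hsub hsymmF hab
  intro u hu
  exact D.faithful u fun z => (hF a b z).1 (by rw [huniv]; exact mem_univ z) u hu

/-- An element of the kernel of `p`-power order with a fixed point besides `a` is trivial. -/
theorem semiregular [Finite G] {a b : Ω} (hb : b ≠ a) {u : G} (hu : u ∈ D.ker a) {t : ℕ}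
    (ht : u ^ p ^ t = 1) (hub : u • b = b) : u = 1 := by
  classical
  have hp := D.prime
  let S : Ω → Ω → Set G := fun x y => {v | (∃ s, v ^ p ^ s = 1) ∧ v ∈ D.ker x ∧ v • y = y}
  -- the pointwise action on a class
  have hblkfix : ∀ x y, x ≠ y → ∀ v ∈ S x y, ∀ z ∈ D.blk x y, v • z = z := by
    rintro x y hxy v ⟨⟨s, hs⟩, hk, hy⟩ z hz
    by_cases hzy : z = y
    · rw [hzy]; exact hy
    refine fixed_of_small hp hs (s := (D.blk x y).erase y) (fun w hw => ?_) ?_
      (mem_erase.2 ⟨hzy, hz⟩)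
    · obtain ⟨hw1, hw2⟩ := mem_erase.1 hw
      have hwx := D.ne_of_mem hxy.symm hw2
      refine mem_erase.2 ⟨fun h => hw1 ?_, ?_⟩
      · rw [← hy] at h; exact MulAction.injective v h
      · rw [← D.eq_of_mem hxy.symm hw2]; exact hk.2 w hwx
    · rw [card_erase_of_mem (D.mem_self hxy.symm), D.card_blk hxy.symm]
      have := hp.pos; omega
  -- symmetry
  have hswap : ∀ x y, x ≠ y → S x y ⊆ S y x := by
    rintro x y hxy v ⟨⟨s, hs⟩, hk, hy⟩
    refine ⟨⟨s, hs⟩, ⟨hy, fun z hz => ?_⟩, hk.1⟩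
    letI : MulAction G (Finset Ω) := Finset.mulActionFinset
    let rows : Finset (Finset Ω) := (univ.erase y).image (fun w => D.blk y w)
    have hsm : ∀ w, (v • D.blk y w : Finset Ω) = D.blk y (v • w) := fun w => by
      have := D.smul_blk v y w
      rw [hy, Finset.map_eq_image] at this
      rw [← this]; rfl
    have hrows : rows.card ≤ p := by
      have h := card_eq_sum_card_fiberwise (f := fun w => D.blk y w)
        (s := univ.erase y) (t := rows) (fun w hw => mem_image_of_mem _ hw)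
      rw [card_erase_of_mem (mem_univ _), card_univ, D.card_eq, Nat.add_sub_cancel] at h
      have h' : ∀ R ∈ rows, ((univ.erase y).filter fun w => D.blk y w = R).card = p := by
        intro R hR
        obtain ⟨w, hw, rfl⟩ := mem_image.1 hR
        have hw' := ne_of_mem_erase hw
        refine Eq.trans ?_ (D.card_blk hw')
        congr 1
        ext w'
        simp only [mem_filter, mem_erase, mem_univ, and_true]
        exact ⟨fun ⟨h1, h2⟩ => h2 ▸ D.mem_self h1,
          fun h1 => ⟨D.ne_of_mem hw' h1, D.eq_of_mem hw' h1⟩⟩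
      rw [sum_congr rfl h', sum_const, smul_eq_mul, sq] at h
      exact le_of_eq (Nat.eq_of_mul_eq_mul_right hp.pos h).symm
    have hmem : D.blk y z ∈ rows := mem_image_of_mem _ (mem_erase.2 ⟨hz, mem_univ _⟩)
    suffices hfix : (v • D.blk y z : Finset Ω) = D.blk y z by
      rw [hsm] at hfix
      rw [← hfix]
      exact D.mem_self fun h => hz (MulAction.injective v (h.trans hy.symm))
    by_cases hzx : D.blk y z = D.blk y x
    · rw [hzx, hsm, hk.1]
    refine fixed_of_small hp hs (s := rows.erase (D.blk y x)) (fun R hR => ?_) ?_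
      (mem_erase.2 ⟨hzx, hmem⟩)
    · obtain ⟨hR1, hR2⟩ := mem_erase.1 hR
      obtain ⟨w, hw, rfl⟩ := mem_image.1 hR2
      refine mem_erase.2 ⟨fun h => hR1 ?_, ?_⟩
      · have e : (v • D.blk y x : Finset Ω) = D.blk y x := by rw [hsm, hk.1]
        rw [← e] at h
        exact MulAction.injective v h
      · rw [hsm]
        exact mem_image_of_mem _ (mem_erase.2
          ⟨fun h => ne_of_mem_erase hw (MulAction.injective v (h.trans hy.symm)), mem_univ _⟩)
    · rw [card_erase_of_mem (show D.blk y x ∈ rows from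
        mem_image_of_mem _ (mem_erase.2 ⟨hxy, mem_univ _⟩))]
      have := hp.pos; omega
  have hconj : ∀ (g : G) (x y : Ω) (v : G), v ∈ S x y → g * v * g⁻¹ ∈ S (g • x) (g • y) := by
    rintro g x y v ⟨⟨s, hs⟩, hk, hy⟩
    exact ⟨⟨s, by rw [conj_pow, hs, mul_one, mul_inv_cancel]⟩, D.conj_mem_ker g hk,
      by rw [mul_smul, mul_smul, inv_smul_smul, hy]⟩
  obtain ⟨c, hc, hcb⟩ : ∃ c ∈ D.blk a b, c ≠ b := by
    refine exists_mem_ne ?_ b
    rw [D.card_blk hb]; exact hp.one_lt
  refine D.fam_trivial S hconj (fun x y _ v hv => ⟨hv.2.1.1, hv.2.2⟩)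
    (fun x y z _ _ h v hv => ⟨hv.1, hv.2.1, h v hv⟩) hb.symm (D.ne_of_mem hb hc) hcb
    (fun v hv => hblkfix a b hb.symm v hv c hc) (fun z => ?_) u ⟨⟨t, ht⟩, hu, hub⟩
  exact ⟨fun h v hv => h v (hswap b a hb hv), fun h v hv => h v (hswap a b hb.symm hv)⟩

end Setup

end Cfsg.Agent.TwoTransSq
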