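import Mathlib
import Cfsg.Agent.Perm.BurnsidePrime

/-!
# Actions of prime degree

Either such a transitive action is 2-transitive, or only the kernel fixes two points and the
elements of order dividing `p` commute in their action.
-/

set_option autoImplicit false
set_option linter.style.haveILetI false

namespace Cfsg.Agent.TwoTransSq

open MulAction

variable {p : ℕ} [hp : Fact p.Prime]

/-- A transitive permutation group of prime degree with soluble structure. -/
theorem affine_of_isSolvable {α : Type*} [Fintype α] (hα : Fintype.card α = p)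
    (Γ : Subgroup (Equiv.Perm α)) [IsPretransitive Γ α] (hΓ : Group.IsSolvable Γ) :
    (∀ (g : Γ) (x y : α), x ≠ y → g • x = x → g • y = y → g = 1) ∧
      (∀ u v : Γ, u ^ p = 1 → v ^ p = 1 → u * v = v * u) := by
  classical
  haveI : Nonempty α := Fintype.card_pos_iff.1 (hα ▸ hp.out.pos)
  obtain ⟨a⟩ := (inferInstance : Nonempty α)
  haveI : Nontrivial Γ := by
    obtain ⟨x, y, hxy⟩ := Fintype.exists_pair_of_one_lt_card (hα ▸ hp.out.one_lt)
    obtain ⟨g, hg⟩ := exists_smul_eq Γ x y
    exact ⟨⟨g, 1, fun h => hxy (by rw [← hg, h, one_smul])⟩⟩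
  obtain ⟨n, hn⟩ := hΓ.solvable
  have hex : ∃ n, derivedSeries Γ n = ⊥ := ⟨n, hn⟩
  set m := Nat.find hex with hm
  have hmspec : derivedSeries Γ m = ⊥ := Nat.find_spec hex
  obtain ⟨j, hj⟩ : ∃ j, m = j + 1 := by
    refine Nat.exists_eq_succ_of_ne_zero fun h => ?_
    rw [h, derivedSeries_zero] at hmspec
    exact top_ne_bot hmspec
  set A := derivedSeries Γ j with hA
  haveI : A.Normal := derivedSeries_normal Γ j
  have hAne : A ≠ ⊥ := Nat.find_min hex (by omega)
  have hcomm : ∀ u ∈ A, ∀ v ∈ A, u * v = v * u := by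
    intro u hu v hv
    rw [hj, derivedSeries_succ, ← hA, Subgroup.commutator_eq_bot_iff_le_centralizer] at hmspec
    exact (Subgroup.mem_centralizer_iff.1 (hmspec hv) u hu)
  -- `A` is transitive
  haveI hAt : IsPretransitive A α := by
    haveI : IsPreprimitive Γ α := IsPreprimitive.of_prime_card (by
      rw [Nat.card_eq_fintype_card, hα]; exact hp.out)
    refine IsQuasiPreprimitive.isPretransitive_of_normal (G := Γ) fun h => hAne ?_
    rw [Subgroup.eq_bot_iff_forall]
    intro g hg
    apply Subtype.ext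
    refine Equiv.ext fun x => ?_
    have hx : x ∈ fixedPoints A α := by rw [h]; trivial
    exact hx ⟨g, hg⟩
  have hreg : ∀ u ∈ A, ∀ x : α, u • x = x → u = 1 := by
    intro u hu x hx
    apply Subtype.ext
    refine Equiv.ext fun y => ?_
    obtain ⟨v, rfl⟩ := exists_smul_eq A x y
    show u • ((v : Γ) • x) = (v : Γ) • x
    rw [← mul_smul, hcomm u hu v v.2, mul_smul, hx]
  have hcard : Nat.card A = p := by
    have hb : Function.Bijective (fun u : A => u • a) := by
      refine ⟨fun u v huv => ?_, fun y => exists_smul_eq A a y⟩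
      have : (v⁻¹ * u) • a = a := by rw [mul_smul]; simp only at huv; rw [huv, inv_smul_smul]
      have := hreg _ (v⁻¹ * u).2 a this
      exact (inv_mul_eq_one.1 (Subtype.ext this : v⁻¹ * u = 1)).symm
    rw [Nat.card_eq_of_bijective _ hb, Nat.card_eq_fintype_card, hα]
  constructor
  · intro g x y hxy hgx hgy
    obtain ⟨u, hu⟩ := exists_smul_eq A x y
    -- `g` centralises `u`
    have h1 : g * u * g⁻¹ = u := by
      have hc : g * (u : Γ) * g⁻¹ ∈ A := ‹A.Normal›.conj_mem _ u.2 g
      have : ((u : Γ)⁻¹ * (g * u * g⁻¹)) • x = x := by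
        rw [mul_smul, mul_smul, mul_smul, inv_smul_eq_iff.2 hgx.symm,
          show (u : Γ) • x = y from hu, hgy]
        exact inv_smul_eq_iff.2 hu.symm
      exact (inv_mul_eq_one.1 (hreg _ (A.mul_mem (A.inv_mem u.2) hc) x this)).symm
    have hu1 : u ≠ 1 := fun h => hxy (by rw [← hu, h, one_smul])
    haveI : Fact (Nat.card A).Prime := ⟨hcard ▸ hp.out⟩
    apply Subtype.ext
    refine Equiv.ext fun z => ?_
    obtain ⟨v, rfl⟩ := exists_smul_eq A x z
    obtain ⟨i, rfl⟩ := Subgroup.mem_zpowers_iff.1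
      (mem_zpowers_of_prime_card (g := u) (g' := v) rfl hu1)
    show g • ((u ^ i : A) • x) = (u ^ i : A) • x
    have hc : Commute g (u : Γ) := mul_inv_eq_iff_eq_mul.1 h1
    show g • (((u ^ i : A) : Γ) • x) = ((u ^ i : A) : Γ) • x
    rw [SubgroupClass.coe_zpow, ← mul_smul, (hc.zpow_right i).eq, mul_smul, hgx]
  · -- every element of order dividing `p` lies in `A`
    have hmem : ∀ u : Γ, u ^ p = 1 → u ∈ A := by
      intro u hu
      have hpi : ¬ p ∣ A.index := by
        intro h
        have h1 : p * p ∣ Nat.card Γ := by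
          rw [← A.card_mul_index, hcard]; exact mul_dvd_mul_left _ h
        have h2 := h1.trans (Subgroup.card_subgroup_dvd_card Γ)
        rw [Nat.card_perm, Nat.card_eq_fintype_card, hα] at h2
        obtain ⟨q, hq⟩ := Nat.exists_eq_succ_of_ne_zero hp.out.ne_zero
        rw [hq, Nat.factorial_succ, ← hq] at h2
        have h3 := (Nat.Prime.dvd_factorial hp.out).1 (Nat.dvd_of_mul_dvd_mul_left hp.out.pos
          (show p * p ∣ p * q.factorial by rwa [show (q + 1 : ℕ) = p from hq.symm] at h2))
        omega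
      have h1 : ((u : Γ ⧸ A)) ^ p = 1 := by rw [← QuotientGroup.mk_pow, hu, QuotientGroup.mk_one]
      have h2 := Nat.Coprime.gcd_eq_one ((hp.out.coprime_iff_not_dvd).2 hpi)
      rw [← QuotientGroup.eq_one_iff, ← orderOf_eq_one_iff, ← Nat.dvd_one, ← h2, Nat.dvd_gcd_iff]
      refine ⟨orderOf_dvd_of_pow_eq_one h1, ?_⟩
      rw [Subgroup.index_eq_card]
      exact orderOf_dvd_natCard _
    exact fun u v hu hv => hcomm u (hmem u hu) v (hmem v hv)

/-- The dichotomy of Burnside for transitive actions of prime degree. -/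
theorem dichotomy {Γ α : Type*} [Group Γ] [MulAction Γ α] [Fintype α]
    (hα : Fintype.card α = p) [IsPretransitive Γ α] :
    (∀ x y x' y' : α, x ≠ y → x' ≠ y' → ∃ g : Γ, g • x = x' ∧ g • y = y') ∨
      ((∀ (g : Γ) (x y : α), x ≠ y → g • x = x → g • y = y → ∀ z : α, g • z = z) ∧
        (∀ u v : Γ, (∀ z : α, u ^ p • z = z) → (∀ z : α, v ^ p • z = z) →
          ∀ z : α, u • v • z = v • u • z)) := by
  classical
  let R := (toPermHom Γ α).range
  let r : Γ →* R := (toPermHom Γ α).rangeRestrict
  have hr : ∀ (g : Γ) (z : α), r g • z = g • z := fun g z => rfl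
  haveI : IsPretransitive R α := ⟨fun x y => by
    obtain ⟨g, hg⟩ := exists_smul_eq Γ x y
    exact ⟨r g, hg⟩⟩
  rcases CfsgLib.Perm.PrimeDegree.burnside hα R with hs | h2
  · right
    obtain ⟨h1, h2⟩ := affine_of_isSolvable hα R hs
    have hpow : ∀ u : Γ, (∀ z : α, u ^ p • z = z) → r u ^ p = 1 := fun u hu => by
      rw [← map_pow]
      exact Subtype.ext (Equiv.ext hu)
    refine ⟨fun g x y hxy hx hy z => ?_, fun u v hu hv z => ?_⟩
    · rw [← hr, h1 (r g) x y hxy hx hy, one_smul]
    · rw [← mul_smul, ← mul_smul, ← hr, ← hr (v * u), map_mul, map_mul,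
        h2 _ _ (hpow u hu) (hpow v hv)]
  · left
    intro x y x' y' hxy hxy'
    obtain ⟨g, hg1, hg2⟩ := (is_two_pretransitive_iff.1 h2) hxy hxy'
    obtain ⟨_, g, rfl⟩ := g
    exact ⟨g, hg1, hg2⟩

end Cfsg.Agent.TwoTransSq
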