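import Mathlib
import Cfsg.Agent.TwoTransSq.Blk
import Cfsg.Agent.TwoTransSq.Prime

/-!
# The kernel of a point stabiliser on its classes
-/

set_option autoImplicit false
set_option linter.style.haveILetI false

namespace Cfsg.Agent.TwoTransSq.Setup

open Finset

variable {G Ω : Type*} [Group G] [MulAction G Ω] [Fintype Ω] [DecidableEq Ω] {p : ℕ}
variable (D : Setup G Ω p)

/-- The classes at a point. -/
def rows (x : Ω) : Finset (Finset Ω) := (univ.erase x).image (D.blk x)

theorem mem_rows {x : Ω} {R : Finset Ω} : R ∈ D.rows x ↔ ∃ y, y ≠ x ∧ D.blk x y = R := by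
  simp [rows]

theorem card_rows (x : Ω) : (D.rows x).card = p := by
  have h := card_eq_sum_card_fiberwise (f := fun w => D.blk x w)
    (s := univ.erase x) (t := D.rows x) (fun w hw => mem_image_of_mem _ hw)
  rw [card_erase_of_mem (mem_univ _), card_univ, D.card_eq, Nat.add_sub_cancel] at h
  have h' : ∀ R ∈ D.rows x, ((univ.erase x).filter fun w => D.blk x w = R).card = p := by
    intro R hR
    obtain ⟨w, hw, rfl⟩ := D.mem_rows.1 hR
    refine Eq.trans ?_ (D.card_blk hw)
    congr 1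
    ext w'
    simp only [mem_filter, mem_erase, mem_univ, and_true]
    exact ⟨fun ⟨h1, h2⟩ => h2 ▸ D.mem_self h1,
      fun h1 => ⟨D.ne_of_mem hw h1, D.eq_of_mem hw h1⟩⟩
  rw [sum_congr rfl h', sum_const, smul_eq_mul, sq] at h
  exact (Nat.eq_of_mul_eq_mul_right D.prime.pos h).symm

/-- The type of classes at `a`. -/
abbrev Row (a : Ω) := {R : Finset Ω // R ∈ D.rows a}

/-- The class of a point, as a term of the type of classes. -/
def rowOf {a y : Ω} (hy : y ≠ a) : D.Row a := ⟨D.blk a y, D.mem_rows.2 ⟨y, hy, rfl⟩⟩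

theorem rowOf_surj {a : Ω} (R : D.Row a) : ∃ y, ∃ hy : y ≠ a, D.rowOf hy = R := by
  obtain ⟨R, hR⟩ := R
  obtain ⟨y, hy, rfl⟩ := D.mem_rows.1 hR
  exact ⟨y, hy, rfl⟩

instance rowSMul (a : Ω) : SMul (MulAction.stabilizer G a) (D.Row a) where
  smul g R := ⟨(R : Finset Ω).map (MulAction.toPerm (g : G)).toEmbedding, by
    obtain ⟨y, hy, hR⟩ := D.mem_rows.1 R.2
    refine D.mem_rows.2 ⟨(g : G) • y, fun h => hy ?_, ?_⟩
    · exact MulAction.injective (g : G) (h.trans (MulAction.mem_stabilizer_iff.1 g.2).symm)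
    · rw [← hR, D.smul_blk, MulAction.mem_stabilizer_iff.1 g.2]⟩

theorem row_smul_coe {a : Ω} (g : MulAction.stabilizer G a) (R : D.Row a) :
    ((g • R : D.Row a) : Finset Ω) = (R : Finset Ω).map (MulAction.toPerm (g : G)).toEmbedding :=
  rfl

instance rowAction (a : Ω) : MulAction (MulAction.stabilizer G a) (D.Row a) where
  one_smul R := Subtype.ext <| by ext; simp [row_smul_coe]
  mul_smul g h R := Subtype.ext <| by ext; simp [row_smul_coe, mul_smul]

theorem smul_rowOf {a y : Ω} (hy : y ≠ a) (g : MulAction.stabilizer G a) :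
    ((g • D.rowOf hy : D.Row a) : Finset Ω) = D.blk a ((g : G) • y) := by
  rw [row_smul_coe, rowOf, D.smul_blk, MulAction.mem_stabilizer_iff.1 g.2]

instance rowTransitive (a : Ω) : MulAction.IsPretransitive (MulAction.stabilizer G a) (D.Row a) :=
  ⟨fun R R' => by
    obtain ⟨y, hy, rfl⟩ := D.rowOf_surj R
    obtain ⟨z, hz, rfl⟩ := D.rowOf_surj R'
    obtain ⟨g, h1, h2⟩ := D.two' hy hz
    exact ⟨⟨g, MulAction.mem_stabilizer_iff.2 h1⟩, Subtype.ext (by rw [smul_rowOf]; exact congrArg _ h2)⟩⟩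

theorem mem_ker_iff_rows {a : Ω} {g : MulAction.stabilizer G a} :
    (g : G) ∈ D.ker a ↔ ∀ R : D.Row a, g • R = R := by
  constructor
  · intro hg R
    obtain ⟨y, hy, rfl⟩ := D.rowOf_surj R
    exact Subtype.ext (by rw [smul_rowOf]; exact D.eq_of_mem hy (hg.2 y hy))
  · intro h
    refine ⟨MulAction.mem_stabilizer_iff.1 g.2, fun y hy => ?_⟩
    have := congrArg Subtype.val (h (D.rowOf hy))
    rw [smul_rowOf] at this
    show (g : G) • y ∈ D.blk a y
    rw [show D.blk a y = ((D.rowOf hy : D.Row a) : Finset Ω) from rfl, ← this]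
    exact D.mem_self fun he => hy
      (MulAction.injective (g : G) (he.trans (MulAction.mem_stabilizer_iff.1 g.2).symm))

include D in
theorem card_stab_dvd [Finite G] (a : Ω) : p ^ 2 ∣ Nat.card (MulAction.stabilizer G a) := by
  haveI : Nontrivial Ω := Fintype.one_lt_card_iff_nontrivial.1 (by
    rw [D.card_eq]; have := D.prime.two_le; nlinarith)
  obtain ⟨b, hb⟩ := exists_ne a
  haveI := Fintype.ofFinite G
  have horb : MulAction.orbit (MulAction.stabilizer G a) b = {a}ᶜ := by
    ext z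
    simp only [MulAction.mem_orbit_iff, Set.mem_compl_iff, Set.mem_singleton_iff]
    constructor
    · rintro ⟨g, rfl⟩ h
      exact hb (MulAction.injective (g : G) (h.trans (MulAction.mem_stabilizer_iff.1 g.2).symm))
    · intro hz
      obtain ⟨g, h1, h2⟩ := D.two' hb hz
      exact ⟨⟨g, MulAction.mem_stabilizer_iff.2 h1⟩, h2⟩
  have hc : (MulAction.orbit (MulAction.stabilizer G a) b).ncard = p ^ 2 := by
    rw [horb, Set.ncard_compl, Set.ncard_singleton, Nat.card_eq_fintype_card, D.card_eq]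
    omega
  rw [← hc, ← MulAction.index_stabilizer]
  exact Subgroup.index_dvd_card _

/-- A kernel element of order `p`. -/
theorem exists_q [Finite G] (a : Ω) : ∃ q : G, q ∈ D.ker a ∧ q ^ p = 1 ∧ q ≠ 1 := by
  haveI : Fact p.Prime := ⟨D.prime⟩
  set ρ := MulAction.toPermHom (MulAction.stabilizer G a) (D.Row a)
  have hdvd : p ∣ Nat.card ρ.ker := by
    by_contra h
    have h1 := D.card_stab_dvd a
    rw [← ρ.ker.card_mul_index, Subgroup.index_ker] at h1
    have h2 : p ^ 2 ∣ Nat.card ρ.range :=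
      (Nat.Coprime.pow_left 2 ((D.prime.coprime_iff_not_dvd).2 h)).dvd_of_dvd_mul_left h1
    have h3 := h2.trans (Subgroup.card_subgroup_dvd_card ρ.range)
    rw [Nat.card_perm, Nat.card_eq_fintype_card, Fintype.card_coe, D.card_rows] at h3
    obtain ⟨m, hm⟩ := Nat.exists_eq_succ_of_ne_zero D.prime.ne_zero
    rw [hm, Nat.factorial_succ, sq] at h3
    have h4 := (Nat.Prime.dvd_factorial D.prime).1
      (show p ∣ m.factorial by rw [hm]; exact Nat.dvd_of_mul_dvd_mul_left (Nat.succ_pos m) h3)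
    omega
  obtain ⟨x, hx⟩ := exists_prime_orderOf_dvd_card' p hdvd
  refine ⟨((x : MulAction.stabilizer G a) : G), ?_, ?_, ?_⟩
  · exact D.mem_ker_iff_rows.2 fun R => Equiv.ext_iff.1 (MonoidHom.mem_ker.1 x.2) R
  · have h1 : x ^ p = 1 := orderOf_dvd_iff_pow_eq_one.1 hx.dvd
    exact congrArg (fun y : ρ.ker => ((y : MulAction.stabilizer G a) : G)) h1
  · intro h
    have : x = 1 := Subtype.ext (Subtype.ext h)
    rw [this, orderOf_one] at hx
    exact D.prime.one_lt.ne hx

variable [Finite G]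

theorem q_fix {a z : Ω} {q : G} (hq : q ∈ D.ker a) (hqp : q ^ p = 1) (hq1 : q ≠ 1) (hz : z ≠ a)
    (i : ℕ) : q ^ i • z = z ↔ p ∣ i := by
  constructor
  · intro h
    by_contra hi
    have h1 : q ^ i = 1 := D.semiregular hz ((D.ker a).pow_mem hq i) (t := 1)
      (by rw [pow_one, ← pow_mul, mul_comm, pow_mul, hqp, one_pow]) h
    have h2 : orderOf q = p := by
      haveI : Fact p.Prime := ⟨D.prime⟩
      exact orderOf_eq_prime hqp hq1
    exact hi (h2 ▸ orderOf_dvd_of_pow_eq_one h1)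
  · rintro ⟨j, rfl⟩
    rw [pow_mul, hqp, one_pow, one_smul]

theorem blk_eq_pow {a z : Ω} {q : G} (hq : q ∈ D.ker a) (hqp : q ^ p = 1) (hq1 : q ≠ 1)
    (hz : z ≠ a) : D.blk a z = (range p).image fun i => q ^ i • z := by
  refine (eq_of_subset_of_card_le (fun w hw => ?_) ?_).symm
  · obtain ⟨i, -, rfl⟩ := mem_image.1 hw
    exact ((D.ker a).pow_mem hq i).2 z hz
  · rw [D.card_blk hz, card_image_of_injOn, card_range]
    have key : ∀ i j, i ≤ j → j < p → q ^ i • z = q ^ j • z → i = j := by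
      intro i j hij hj h
      have h' : q ^ (j - i) • z = z := by
        apply MulAction.injective (q ^ i)
        show q ^ i • q ^ (j - i) • z = q ^ i • z
        rw [← mul_smul, ← pow_add, Nat.add_sub_cancel' hij, h]
      obtain ⟨k, hk⟩ := (D.q_fix hq hqp hq1 hz _).1 h'
      rcases Nat.eq_zero_or_pos k with rfl | hk0
      · omega
      · have : p ≤ p * k := Nat.le_mul_of_pos_right p hk0
        omega
    intro i hi j hj h
    simp only [coe_range, Set.mem_Iio] at hi hj
    rcases le_total i j with hij | hij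
    · exact key i j hij hj h
    · exact (key j i hij hi h.symm).symm

theorem exists_pow {a z w : Ω} {q : G} (hq : q ∈ D.ker a) (hqp : q ^ p = 1) (hq1 : q ≠ 1)
    (hz : z ≠ a) (hw : w ∈ D.blk a z) : ∃ i, i < p ∧ q ^ i • z = w := by
  rw [D.blk_eq_pow hq hqp hq1 hz, mem_image] at hw
  obtain ⟨i, hi, h⟩ := hw
  exact ⟨i, mem_range.1 hi, h⟩

open scoped Pointwise in
/-- The kernel acts faithfully on each class. -/
theorem faith {a b : Ω} (hb : b ≠ a) {n : G} (hn : n ∈ D.ker a)
    (hfix : ∀ z ∈ D.blk a b, n • z = z) : n = 1 := by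
  classical
  obtain ⟨q, hq, hqp, hq1⟩ := D.exists_q a
  haveI : Fact p.Prime := ⟨D.prime⟩
  let M : Subgroup G :=
    { carrier := {g | g ∈ D.ker a ∧ ∀ z ∈ D.blk a b, g • z = z}
      one_mem' := ⟨one_mem _, fun z _ => one_smul _ _⟩
      mul_mem' := fun {g h} hg hh => ⟨mul_mem hg.1 hh.1, fun z hz => by
        rw [mul_smul, hh.2 z hz, hg.2 z hz]⟩
      inv_mem' := fun {g} hg => ⟨inv_mem hg.1, fun z hz => by
        rw [inv_smul_eq_iff, hg.2 z hz]⟩ }
  have hM : ¬ p ∣ Nat.card M := by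
    intro h
    obtain ⟨x, hx⟩ := exists_prime_orderOf_dvd_card' p h
    have h1 : (x : G) = 1 := D.semiregular hb x.2.1 (t := 1) (by
      rw [pow_one, ← SubgroupClass.coe_pow, ← hx, pow_orderOf_eq_one]; rfl)
      (x.2.2 b (D.mem_self hb))
    rw [(Subtype.ext h1 : x = 1), orderOf_one] at hx
    exact D.prime.one_lt.ne hx
  have hqM : ∀ m ∈ M, q * m * q⁻¹ ∈ M := fun m hm =>
    ⟨mul_mem (mul_mem hq hm.1) (inv_mem hq), fun z hz => by
      have hz' : q⁻¹ • z ∈ D.blk a b := by
        have := (inv_mem hq : q⁻¹ ∈ D.ker a).2 z (D.ne_of_mem hb hz)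
        rwa [D.eq_of_mem hb hz] at this
      rw [mul_smul, mul_smul, hm.2 _ hz', smul_inv_smul]⟩
  refine D.faithful n fun z => ?_
  by_cases hza : z = a
  · rw [hza, hn.1]
  by_contra hne
  let O : Ω → Set Ω := fun w => MulAction.orbit M w
  have hOsub : ∀ w ∈ D.blk a z, O w ⊆ (D.blk a z : Set Ω) := by
    rintro w hw _ ⟨m, rfl⟩
    have := m.2.1.2 w (D.ne_of_mem hza hw)
    rwa [D.eq_of_mem hza hw] at this
  have hcard : (O z).ncard ∣ Nat.card M := by
    rw [← MulAction.index_stabilizer]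
    exact Subgroup.index_dvd_card _
  have hle : q • O z = O (q • z) → q • O z = O z → False := by
    intro _ hfixO
    have hall : ∀ i : ℕ, q ^ i • z ∈ O z := by
      intro i
      induction i with
      | zero => rw [pow_zero, one_smul]; exact MulAction.mem_orbit_self z
      | succ i ih =>
        rw [pow_succ', mul_smul, ← hfixO]
        exact Set.smul_mem_smul_set ih
    have hOall : O z = (D.blk a z : Set Ω) := by
      refine Set.Subset.antisymm (hOsub z (D.mem_self hza)) fun w hw => ?_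
      obtain ⟨i, -, rfl⟩ := D.exists_pow hq hqp hq1 hza hw
      exact hall i
    rw [hOall, Set.ncard_coe_finset, D.card_blk hza] at hcard
    exact hM hcard
  have hqO : ∀ w, q • O w = O (q • w) := by
    intro w
    ext v
    rw [Set.mem_smul_set]
    constructor
    · rintro ⟨_, ⟨m, rfl⟩, rfl⟩
      refine ⟨⟨q * m * q⁻¹, hqM m m.2⟩, ?_⟩
      show (q * (m : G) * q⁻¹) • q • w = q • (m : G) • w
      rw [mul_smul, mul_smul, inv_smul_smul]
    · rintro ⟨m, rfl⟩
      obtain ⟨m', hm'⟩ : ∃ m' : M, q * (m' : G) * q⁻¹ = m := by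
        -- conjugation by `q` is onto
        have hinj : Function.Injective fun x : M => (⟨q * x * q⁻¹, hqM x x.2⟩ : M) := fun x y h =>
          Subtype.ext (mul_left_cancel (mul_right_cancel (congrArg Subtype.val h)))
        obtain ⟨m', hm'⟩ := Finite.injective_iff_surjective.1 hinj m
        exact ⟨m', congrArg Subtype.val hm'⟩
      refine ⟨(m' : G) • w, ⟨m', rfl⟩, ?_⟩
      show q • (m' : G) • w = (m : G) • q • w
      rw [← hm', mul_smul, mul_smul, inv_smul_smul]
  refine hle (hqO z) ?_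
  let s : Finset (Set Ω) := (D.blk a z).image O
  refine fixed_of_small D.prime (t := 1) (by rw [pow_one]; exact hqp) (s := s) (fun w hw => ?_) ?_
    (mem_image_of_mem _ (D.mem_self hza))
  · obtain ⟨v, hv, rfl⟩ := mem_image.1 hw
    rw [hqO]
    refine mem_image_of_mem _ ?_
    have := hq.2 v (D.ne_of_mem hza hv)
    rwa [D.eq_of_mem hza hv] at this
  · refine lt_of_lt_of_le (lt_of_le_of_ne card_image_le fun heq => hne ?_) (D.card_blk hza).le
    have hinj := card_image_iff.1 heq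
    have hnz : n • z ∈ O z := ⟨⟨n, hn, hfix⟩, rfl⟩
    exact hinj (hOsub z (D.mem_self hza) hnz) (D.mem_self hza)
      (MulAction.orbit_eq_iff.2 hnz)

/-- The dichotomy for the classes at a point. -/
theorem rows_dichotomy {a b : Ω} (hb : b ≠ a) :
    (∀ z w, z ≠ a → w ≠ a → z ∉ D.blk a b → w ∉ D.blk a b →
      ∃ e : G, e • a = a ∧ e • b = b ∧ e • z ∈ D.blk a w) ∨
      (∀ g : G, g • a = a → ∀ y z, y ≠ a → z ≠ a → z ∉ D.blk a y → g • y ∈ D.blk a y →
        g • z ∈ D.blk a z → g ∈ D.ker a) := by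
  haveI : Fact p.Prime := ⟨D.prime⟩
  rcases dichotomy (Γ := MulAction.stabilizer G a) (α := D.Row a)
    (by rw [Fintype.card_coe, D.card_rows]) with h | ⟨h, -⟩
  · left
    intro z w hz hw hzb hwb
    have hne : ∀ v, ∀ hv : v ≠ a, v ∉ D.blk a b → D.rowOf hb ≠ D.rowOf hv := fun v hv hvb he =>
      hvb (by rw [show D.blk a b = D.blk a v from congrArg Subtype.val he]; exact D.mem_self hv)
    obtain ⟨g, h1, h2⟩ := h _ _ _ _ (hne z hz hzb) (hne w hw hwb)
    have e1 := congrArg Subtype.val h1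
    have e2 := congrArg Subtype.val h2
    rw [smul_rowOf] at e1 e2
    obtain ⟨q, hq, hqp, hq1⟩ := D.exists_q a
    have hga : (g : G) • a = a := MulAction.mem_stabilizer_iff.1 g.2
    have hgb : (g : G) • b ∈ D.blk a b := by
      rw [show D.blk a b = ((D.rowOf hb : D.Row a) : Finset Ω) from rfl, ← e1]
      exact D.mem_self fun he => hb (MulAction.injective (g : G) (he.trans hga.symm))
    obtain ⟨i, -, hi⟩ := D.exists_pow hq hqp hq1 (D.ne_of_mem hb hgb)
      (show b ∈ D.blk a ((g : G) • b) by rw [D.eq_of_mem hb hgb]; exact D.mem_self hb)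
    refine ⟨q ^ i * g, by rw [mul_smul, hga, ((D.ker a).pow_mem hq i).1],
      by rw [mul_smul, hi], ?_⟩
    rw [mul_smul]
    have hgz : (g : G) • z ≠ a := fun he => hz (MulAction.injective (g : G) (he.trans hga.symm))
    have := ((D.ker a).pow_mem hq i).2 _ hgz
    rwa [e2] at this
  · right
    intro g hga y z hy hz hzy hgy hgz
    refine (D.mem_ker_iff_rows (g := ⟨g, MulAction.mem_stabilizer_iff.2 hga⟩)).2
      (h _ (D.rowOf hy) (D.rowOf hz) ?_ ?_ ?_)
    · intro he
      exact hzy (by rw [show D.blk a y = D.blk a z from congrArg Subtype.val he]; exact D.mem_self hz)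
    · exact Subtype.ext (by rw [smul_rowOf]; exact D.eq_of_mem hy hgy)
    · exact Subtype.ext (by rw [smul_rowOf]; exact D.eq_of_mem hz hgz)

/-- The dichotomy for the action of the kernel on a class. -/
theorem blk_dichotomy {a b : Ω} (hb : b ≠ a) :
    (∀ z z', z ∈ D.blk a b → z' ∈ D.blk a b → z ≠ b → z' ≠ b →
      ∃ n ∈ D.ker a, n • b = b ∧ n • z = z') ∨
      ((∀ n ∈ D.ker a, n • b = b → ∀ z ∈ D.blk a b, z ≠ b → n • z = z → n = 1) ∧
        (∀ u v, u ∈ D.ker a → v ∈ D.ker a → u ^ p = 1 → v ^ p = 1 → u * v = v * u)) := by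
  haveI : Fact p.Prime := ⟨D.prime⟩
  have hmem : ∀ (g : D.ker a) {w : Ω}, w ∈ D.blk a b → (g : G) • w ∈ D.blk a b := fun g w hw => by
    have := g.2.2 w (D.ne_of_mem hb hw)
    rwa [D.eq_of_mem hb hw] at this
  let X : SubMulAction (D.ker a) Ω :=
    { carrier := (D.blk a b : Set Ω), smul_mem' := fun g _ hw => hmem g hw }
  letI : Fintype X := Fintype.ofFinite X
  have hXmem : ∀ {w : Ω}, w ∈ X ↔ w ∈ D.blk a b := Iff.rfl
  have hcardX : Fintype.card X = p := by
    rw [← Nat.card_eq_fintype_card]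
    refine Eq.trans ?_ (D.card_blk hb)
    rw [← Nat.card_eq_finsetCard]
    rfl
  haveI : MulAction.IsPretransitive (D.ker a) X := ⟨fun x y => by
    obtain ⟨q, hq, hqp, hq1⟩ := D.exists_q a
    have hx : (x : Ω) ∈ D.blk a b := x.2
    obtain ⟨i, -, hi⟩ := D.exists_pow hq hqp hq1 (D.ne_of_mem hb hx)
      (show (y : Ω) ∈ D.blk a x by rw [D.eq_of_mem hb hx]; exact y.2)
    exact ⟨⟨q ^ i, (D.ker a).pow_mem hq i⟩, Subtype.ext hi⟩⟩
  rcases dichotomy (Γ := D.ker a) (α := X) hcardX with h | ⟨h1, h2⟩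
  · left
    intro z z' hz hz' hzb hz'b
    obtain ⟨g, h1, h2⟩ := h ⟨b, D.mem_self hb⟩ ⟨z, hz⟩ ⟨b, D.mem_self hb⟩ ⟨z', hz'⟩
      (fun he => hzb (congrArg Subtype.val he).symm) (fun he => hz'b (congrArg Subtype.val he).symm)
    exact ⟨g, g.2, congrArg Subtype.val h1, congrArg Subtype.val h2⟩
  · right
    refine ⟨fun n hn hnb z hz hzb hnz => D.faith hb hn fun w hw => ?_, ?_⟩
    · exact congrArg Subtype.val (h1 ⟨n, hn⟩ ⟨b, D.mem_self hb⟩ ⟨z, hz⟩
        (fun he => hzb (congrArg Subtype.val he).symm) (Subtype.ext hnb) (Subtype.ext hnz) ⟨w, hw⟩)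
    · intro u v hu hv hup hvp
      have key : (u * v)⁻¹ * (v * u) = 1 := by
        refine D.faith hb (mul_mem (inv_mem (mul_mem hu hv)) (mul_mem hv hu)) fun w hw => ?_
        have h3 := congrArg Subtype.val (h2 ⟨u, hu⟩ ⟨v, hv⟩
          (fun z => Subtype.ext (by show (u ^ p) • (z : Ω) = z; rw [hup, one_smul]))
          (fun z => Subtype.ext (by show (v ^ p) • (z : Ω) = z; rw [hvp, one_smul])) ⟨w, hw⟩)
        rw [mul_smul, inv_smul_eq_iff, mul_smul, mul_smul]
        exact h3.symm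
      exact inv_mul_eq_one.1 key

end Cfsg.Agent.TwoTransSq.Setup
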