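import Mathlib
import Cfsg.Agent.TwoTransSq.Kernel

/-!
# Configurations of classes which cannot occur
-/

set_option autoImplicit false
set_option linter.style.haveILetI false

namespace Cfsg.Agent.TwoTransSq.Setup

open Finset

variable {G Ω : Type*} [Group G] [MulAction G Ω] [Fintype Ω] [DecidableEq Ω] {p : ℕ}
variable (D : Setup G Ω p)

include D in
theorem ne_smul {g : G} {x y : Ω} (h : y ≠ x) : g • y ≠ g • x := fun he => h (MulAction.injective g he)

theorem blk_smul_mem (g : G) {x y z : Ω} : g • z ∈ D.blk (g • x) (g • y) ↔ z ∈ D.blk x y :=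
  ⟨fun h => by simpa using D.smul_mem g⁻¹ h, D.smul_mem g⟩

include D in
/-- The classes of `b` at `a` and of `a` at `b` cannot be nested. -/
theorem end1 {a b : Ω} (hb : b ≠ a) (h : ∀ z ∈ D.blk a b, z ≠ b → z ∈ D.blk b a) : False := by
  classical
  let F : Ω → Ω → Finset Ω := fun x y => insert x (D.blk x y)
  have hcard : ∀ x y, x ≠ y → (F x y).card = p + 1 := fun x y hxy => by
    rw [card_insert_of_notMem (fun hm => D.ne_of_mem hxy.symm hm rfl), D.card_blk hxy.symm]
  have hab : F a b = F b a := by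
    refine eq_of_subset_of_card_le (fun z hz => ?_) (by rw [hcard a b hb.symm, hcard b a hb])
    simp only [F, mem_insert] at hz ⊢
    rcases hz with rfl | hz
    · exact Or.inr (D.mem_self hb.symm)
    · exact (em (z = b)).imp id (h z hz)
  refine no_design D.prime D.card_eq F hcard (fun x y _ => mem_insert_self _ _)
    (fun x y hxy => mem_insert_of_mem (D.mem_self hxy.symm)) (fun x y z hxy hz hzx => ?_) ?_
  · rw [mem_insert] at hz
    show insert x (D.blk x z) = insert x (D.blk x y)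
    rw [D.eq_of_mem hxy.symm (hz.resolve_left hzx)]
  · intro x y hxy
    obtain ⟨g, rfl, rfl⟩ := D.two hb.symm hxy
    ext z
    obtain ⟨w, rfl⟩ := MulAction.surjective g z
    have := Finset.ext_iff.1 hab w
    simpa [F, D.blk_smul_mem, smul_left_cancel_iff] using this

include D in
/-- If the classes at `b` are transported to themselves the configuration is nested. -/
theorem end2 {a b : Ω} (hb : b ≠ a) (h : ∀ c ∈ D.blk b a, c ≠ a → b ∈ D.blk c a) : False := by
  refine D.end1 hb fun z hz hzb => ?_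
  have hza := D.ne_of_mem hb hz
  obtain ⟨g, h1, h2⟩ := D.two hb.symm hza
  have hbz : b ∈ D.blk a z := by rw [D.eq_of_mem hb hz]; exact D.mem_self hb
  have hc : g⁻¹ • b ∈ D.blk b a := by
    rw [← D.blk_smul_mem g, h1, h2, smul_inv_smul]; exact hbz
  have hca : g⁻¹ • b ≠ a := fun he => hzb.symm (by rw [← h1, ← he, smul_inv_smul])
  have := D.smul_mem g (h _ hc hca)
  rw [h1, h2, smul_inv_smul] at this
  -- `a` lies in the class of `z` at `b`
  rw [D.eq_of_mem hzb this]
  exact D.mem_self hzb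

/-- The kernel elements fixing a second point. -/
def Hs (x y : Ω) : Set G := {u | u ∈ D.ker x ∧ u • y = y}

theorem Hs_conj (g : G) (x y : Ω) (u : G) (hu : u ∈ D.Hs x y) :
    g * u * g⁻¹ ∈ D.Hs (g • x) (g • y) :=
  ⟨D.conj_mem_ker g hu.1, by rw [mul_smul, mul_smul, inv_smul_smul, hu.2]⟩

/-- The stabiliser of two points. -/
def Es (_D : Setup G Ω p) (x y : Ω) : Set G := {u | u • x = x ∧ u • y = y}

theorem Es_conj (g : G) (x y : Ω) (u : G) (hu : u ∈ D.Es x y) :
    g * u * g⁻¹ ∈ D.Es (g • x) (g • y) :=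
  ⟨by rw [mul_smul, mul_smul, inv_smul_smul, hu.1], by rw [mul_smul, mul_smul, inv_smul_smul, hu.2]⟩

variable [Finite G]

theorem Hs_eq {a b z : Ω} (hb : b ≠ a) (hz : z ≠ a) (h : ∀ u ∈ D.Hs a b, u • z = z) :
    D.Hs a b = D.Hs a z :=
  D.fam_eq D.Hs D.Hs_conj hb.symm hz.symm fun u hu => ⟨hu.1, h u hu⟩

/-- A nontrivial point stabiliser of the kernel fixes at most one point in each class. -/
theorem Hs_unique {a b : Ω} (hb : b ≠ a) (hH : ∃ u ∈ D.Hs a b, u ≠ 1) {z z' : Ω} (hz : z ≠ a)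
    (hz' : z' ∈ D.blk a z) (hfz : ∀ u ∈ D.Hs a b, u • z = z) (hfz' : ∀ u ∈ D.Hs a b, u • z' = z') :
    z' = z := by
  by_contra hne
  obtain ⟨u₀, hu₀, hu₀1⟩ := hH
  obtain ⟨q, hq, hqp, hq1⟩ := D.exists_q a
  obtain ⟨i, hip, hi⟩ := D.exists_pow hq hqp hq1 hz hz'
  have hz'a := D.ne_of_mem hz hz'
  have e1 := D.Hs_eq hb hz hfz
  have e2 := D.Hs_eq hb hz'a hfz'
  -- `q ^ i` normalises the stabiliser
  have hnorm : ∀ u ∈ D.Hs a b, ∀ w : Ω, (∀ v ∈ D.Hs a b, v • w = w) → u • q ^ i • w = q ^ i • w := by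
    intro u hu w hw
    have hqi : q ^ i • a = a := ((D.ker a).pow_mem hq i).1
    have h1 := D.Hs_conj (q ^ i)⁻¹ a z' u (e2 ▸ hu)
    rw [inv_smul_eq_iff.2 hqi.symm, inv_smul_eq_iff.2 hi.symm, ← e1] at h1
    have h2 := hw _ h1
    rw [inv_inv, mul_smul, mul_smul, inv_smul_eq_iff] at h2
    exact h2
  have hall : ∀ k : ℕ, ∀ u ∈ D.Hs a b, u • q ^ (i * k) • z = q ^ (i * k) • z := by
    intro k
    induction k with
    | zero => intro u hu; rw [mul_zero, pow_zero, one_smul]; exact hfz u hu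
    | succ k ih =>
      intro u hu
      rw [Nat.mul_succ, add_comm, pow_add, mul_smul]
      exact hnorm u hu _ ih
  apply hu₀1
  refine D.faith hz hu₀.1 fun w hw => ?_
  obtain ⟨j, -, rfl⟩ := D.exists_pow hq hqp hq1 hz hw
  have hi0 : ¬ p ∣ i := fun hd => hne (by rw [← hi, (D.q_fix hq hqp hq1 hz i).2 hd])
  -- solve `i * k = j` modulo `p`
  obtain ⟨k, hk⟩ : ∃ k, i * k % p = j % p := by
    haveI : Fact p.Prime := ⟨D.prime⟩
    refine ⟨(((i : ZMod p))⁻¹ * j).val, ?_⟩
    apply (ZMod.natCast_eq_natCast_iff' (c := p) _ _).1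
    have : (i : ZMod p) ≠ 0 := by rwa [Ne, ZMod.natCast_eq_zero_iff]
    rw [Nat.cast_mul, ZMod.natCast_val, ZMod.cast_id, mul_inv_cancel_left₀ this]
  have hqj : q ^ j = q ^ (i * k) := by
    rw [← Nat.mod_add_div j p, ← Nat.mod_add_div (i * k) p, hk, pow_add, pow_add, pow_mul,
      pow_mul, hqp, one_pow, one_pow]
  rw [hqj]
  exact hall k u₀ hu₀

include D in
/-- The point stabiliser of the kernel cannot fix the class of `a` at `b` pointwise. -/
theorem end_H {a b : Ω} (hb : b ≠ a) (hH : ∃ u ∈ D.Hs a b, u ≠ 1)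
    (hfix : ∀ u ∈ D.Hs a b, ∀ c ∈ D.blk b a, u • c = c) : False := by
  classical
  let A2 := (D.blk b a).erase a
  let O := univ.filter fun z => z ≠ a ∧ z ∉ D.blk a b ∧ ∀ u ∈ D.Hs a b, u • z = z
  have hA2O : A2 ⊆ O := by
    intro c hc
    obtain ⟨hca, hcb⟩ := mem_erase.1 hc
    refine mem_filter.2 ⟨mem_univ _, hca, fun hm => D.ne_of_mem hb.symm hcb ?_,
      fun u hu => hfix u hu c hcb⟩
    exact D.Hs_unique hb hH hb hm (fun u hu => hu.2) (fun u hu => hfix u hu c hcb)
  have hOcard : O.card ≤ A2.card := by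
    rw [card_erase_of_mem (D.mem_self hb.symm), D.card_blk hb.symm]
    refine le_trans (card_le_card_of_injOn (D.blk a) (t := (D.rows a).erase (D.blk a b))
      (fun z hz => ?_) (fun z hz z' hz' he => ?_)) ?_
    · obtain ⟨-, hza, hzb, -⟩ := mem_filter.1 hz
      exact mem_erase.2 ⟨fun he => hzb (he ▸ D.mem_self hza), D.mem_rows.2 ⟨z, hza, rfl⟩⟩
    · obtain ⟨-, hza, -, hzf⟩ := mem_filter.1 hz
      obtain ⟨-, hza', -, hzf'⟩ := mem_filter.1 hz'
      exact (D.Hs_unique hb hH hza (he ▸ D.mem_self hza') hzf hzf').symm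
    · rw [card_erase_of_mem (D.mem_rows.2 ⟨b, hb, rfl⟩), D.card_rows]
  have hOA2 : A2 = O := eq_of_subset_of_card_le hA2O hOcard
  refine D.end2 hb fun c hc hca => ?_
  have hcb : c ∉ D.blk a b :=
    ((mem_filter.1 (hA2O (mem_erase.2 ⟨hca, hc⟩))).2).2.1
  obtain ⟨k, hk1, hk2⟩ := D.two' hb hca
  have he := D.Hs_eq hb hca fun u hu => hfix u hu c hc
  have hmem : k⁻¹ • b ∈ O := by
    refine mem_filter.2 ⟨mem_univ _, fun h => hb ?_, fun h => hcb ?_, fun u hu => ?_⟩
    · rw [← hk1, ← h, smul_inv_smul]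
    · have h' := D.smul_mem k h
      rw [smul_inv_smul, hk1, hk2] at h'
      rw [D.eq_of_mem hca h']
      exact D.mem_self hca
    · have h1 := D.Hs_conj k a b u hu
      rw [hk1, hk2, ← he] at h1
      have h2 := h1.2
      rw [mul_smul, mul_smul, smul_eq_iff_eq_inv_smul] at h2
      exact h2
  rw [← hOA2] at hmem
  have := D.smul_mem k (mem_of_mem_erase hmem)
  rwa [smul_inv_smul, hk1, hk2] at this

end Cfsg.Agent.TwoTransSq.Setup
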