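import Mathlib

/-!
# Two-point stabilisers of 2-transitive groups of degree `2 * odd` have even order
-/

set_option autoImplicit false
set_option linter.style.haveILetI false

namespace Cfsg.Agent.TwoTransSq

/-- In a faithful 2-transitive action on `2 * m` points, `m` odd, `m ≥ 3`, the point stabilisers
cannot consist of elements of odd order only. -/
theorem not_odd_stabilizer {G Ω : Type*} [Group G] [Finite G] [MulAction G Ω] [Fintype Ω]
    [DecidableEq Ω] {m : ℕ} (hΩ : Fintype.card Ω = 2 * m) (hm : Odd m) (hm3 : 3 ≤ Fintype.card Ω)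
    (hfaith : ∀ g : G, (∀ z : Ω, g • z = z) → g = 1)
    (h2 : ∀ {x y u v : Ω}, x ≠ y → u ≠ v → ∃ g : G, g • x = u ∧ g • y = v)
    (hodd : ∀ (g : G) (x : Ω), g • x = x → Odd (orderOf g)) : False := by
  classical
  haveI : Fact (Nat.Prime 2) := ⟨Nat.prime_two⟩
  let φ : G →* ℤˣ := Equiv.Perm.sign.comp (MulAction.toPermHom G Ω)
  have hφstab : ∀ (g : G) (x : Ω), g • x = x → φ g = 1 := by
    intro g x hx
    have h1 : φ g ^ orderOf g = 1 := by rw [← map_pow, pow_orderOf_eq_one, map_one]
    rcases Int.units_eq_one_or (φ g) with h | h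
    · exact h
    · rw [h, (hodd g x hx).neg_one_pow] at h1
      exact absurd h1 (by decide)
  have hall : ∀ g : G, φ g = 1 := by
    intro g
    obtain ⟨a⟩ : Nonempty Ω := Fintype.card_pos_iff.1 (by omega)
    by_cases hga : g • a = a
    · exact hφstab g a hga
    obtain ⟨z, hz⟩ : ∃ z, z ∉ ({a, g • a} : Finset Ω) := by
      by_contra h
      push Not at h
      have := Finset.card_le_card (fun z (_ : z ∈ (Finset.univ : Finset Ω)) => h z)
      rw [Finset.card_univ] at this
      have h' : ({a, g • a} : Finset Ω).card ≤ 2 := Finset.card_le_two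
      omega
    simp only [Finset.mem_insert, Finset.mem_singleton, not_or] at hz
    obtain ⟨h, h1, h2'⟩ := h2 hz.1 hz.2
    have : φ (h⁻¹ * g) = 1 := hφstab _ a (by rw [mul_smul, inv_smul_eq_iff, h2'])
    rwa [map_mul, map_inv, hφstab h z h1, inv_one, one_mul] at this
  -- an involution
  obtain ⟨a, b, hab⟩ := Fintype.exists_pair_of_one_lt_card (α := Ω) (by omega)
  obtain ⟨s, hs1, hs2⟩ := h2 hab hab.symm
  have heven : 2 ∣ orderOf s := by
    by_contra h
    have ho : Odd (orderOf s) := Nat.not_even_iff_odd.1 fun he => h he.two_dvd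
    obtain ⟨r, hr⟩ := ho
    have hsq : ∀ k : ℕ, (s ^ 2) ^ k • a = a := by
      intro k
      induction k with
      | zero => simp
      | succ k ih => rw [pow_succ, mul_smul, sq, mul_smul, hs1, hs2, ← sq, ih]
    have : s • a = a := by
      have h3 : s ^ (orderOf s + 1) = s := by rw [pow_succ, pow_orderOf_eq_one, one_mul]
      rw [← h3, hr, show 2 * r + 1 + 1 = 2 * (r + 1) by ring, pow_mul]
      exact hsq _
    exact hab (this.symm.trans hs1)
  set t := s ^ (orderOf s / 2) with ht
  have htord : orderOf t = 2 := orderOf_pow_orderOf_div (orderOf_pos s).ne' heven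
  have htfree : ∀ x : Ω, t • x ≠ x := by
    intro x hx
    have := hodd t x hx
    rw [htord] at this
    exact absurd this (by decide)
  set σ := MulAction.toPermHom G Ω t with hσ
  have hσ2 : σ ^ 2 = 1 := by
    rw [hσ, ← map_pow, ← htord, pow_orderOf_eq_one, map_one]
  have hsupp : σ.support = Finset.univ := by
    ext x
    simp only [Equiv.Perm.mem_support, Finset.mem_univ, iff_true]
    exact htfree x
  have hct : ∀ k ∈ σ.cycleType, k = 2 := by
    intro k hk
    have h1 : k ∣ 2 := by
      rw [← orderOf_dvd_iff_pow_eq_one] at hσ2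
      exact (Equiv.Perm.dvd_of_mem_cycleType hk).trans hσ2
    exact le_antisymm (Nat.le_of_dvd two_pos h1) (Equiv.Perm.two_le_of_mem_cycleType hk)
  have hrep : σ.cycleType = Multiset.replicate σ.cycleType.card 2 :=
    Multiset.eq_replicate_card.2 hct
  have hsum := σ.sum_cycleType
  rw [hrep, Multiset.sum_replicate, smul_eq_mul, hsupp, Finset.card_univ, hΩ] at hsum
  have hcard : σ.cycleType.card = m := by omega
  have h1 : Equiv.Perm.sign σ = 1 := hall t
  rw [Equiv.Perm.sign_of_cycleType, hrep, hcard, Multiset.sum_replicate, Multiset.card_replicate,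
    smul_eq_mul] at h1
  have hodd' : Odd (m * 2 + m) := by
    obtain ⟨r, rfl⟩ := hm
    exact ⟨3 * r + 1, by ring⟩
  rw [hodd'.neg_one_pow] at h1
  exact absurd h1 (by decide)

end Cfsg.Agent.TwoTransSq
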