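import Mathlib
import Cfsg.Agent.TwoTransSq.Ends
import Cfsg.Agent.TwoTransSq.Parity

/-!
# The case of Frobenius actions on the classes and on a class
-/

set_option autoImplicit false
set_option linter.style.haveILetI false

namespace Cfsg.Agent.TwoTransSq

open Finset

/-- An involution of a set with an odd number of points fixes a point. -/
theorem exists_fixed_of_odd {α : Type*} [DecidableEq α] {s : Finset α} (hs : Odd s.card)
    (f : α → α) (hf : ∀ x ∈ s, f x ∈ s) (hff : ∀ x ∈ s, f (f x) = x) : ∃ x ∈ s, f x = x := by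
  by_contra h
  push Not at h
  have h0 : ∑ _x ∈ s, (1 : ZMod 2) = 0 :=
    sum_involution (fun x _ => f x) (fun _ _ => by decide) (fun x hx _ => h x hx)
      (fun x hx => hf x hx) (fun x hx => hff x hx)
  rw [sum_const, nsmul_one, ZMod.natCast_eq_zero_iff_even] at h0
  exact Nat.not_even_iff_odd.2 hs h0

namespace Setup

variable {G Ω : Type*} [Group G] [MulAction G Ω] [Fintype Ω] [DecidableEq Ω] {p : ℕ}
variable (D : Setup G Ω p) [Finite G]

/-- The hypotheses of the Frobenius case at the pair `a`, `b`. -/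
structure Frob (a b : Ω) : Prop where
  ne : b ≠ a
  rows : ∀ g : G, g • a = a → ∀ y z, y ≠ a → z ≠ a → z ∉ D.blk a y → g • y ∈ D.blk a y →
    g • z ∈ D.blk a z → g ∈ D.ker a
  free : ∀ n ∈ D.ker a, n • b = b → ∀ z ∈ D.blk a b, z ≠ b → n • z = z → n = 1
  comm : ∀ u v, u ∈ D.ker a → v ∈ D.ker a → u ^ p = 1 → v ^ p = 1 → u * v = v * u

variable {D}

theorem Frob.free' {a b : Ω} (F : D.Frob a b) {y z : Ω} (hy : y ≠ a) {n : G} (hn : n ∈ D.ker a)
    (hny : n • y = y) (hz : z ∈ D.blk a y) (hzy : z ≠ y) (hnz : n • z = z) : n = 1 := by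
  obtain ⟨k, hka, hky⟩ := D.two' hy F.ne
  have h1 := D.conj_mem_ker k hn
  rw [hka] at h1
  have h2 := D.smul_mem k hz
  rw [hka, hky] at h2
  exact conj_eq_one_iff.1 (F.free _ h1 (by rw [← hky, mul_smul, mul_smul, inv_smul_smul, hny])
    _ h2 (fun h => hzy (MulAction.injective k (h.trans hky.symm)))
    (by rw [mul_smul, mul_smul, inv_smul_smul, hnz]))

/-- A kernel element commuting with `q` and fixing a point is trivial. -/
theorem Frob.cent {a b : Ω} (F : D.Frob a b) {q n : G} (hq : q ∈ D.ker a) (hqp : q ^ p = 1)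
    (hq1 : q ≠ 1) (hn : n ∈ D.ker a) (hc : n * q = q * n) (hnb : n • b = b) : n = 1 := by
  refine D.faith F.ne hn fun w hw => ?_
  obtain ⟨i, -, rfl⟩ := D.exists_pow hq hqp hq1 F.ne hw
  rw [← mul_smul, (Commute.pow_right hc i).eq, mul_smul, hnb]

/-- Elements of the stabiliser act on the kernel element of order `p` by a power. -/
theorem Frob.normalize {a b : Ω} (F : D.Frob a b) {q g : G} (hq : q ∈ D.ker a) (hqp : q ^ p = 1)
    (hq1 : q ≠ 1) (hg : g • a = a) : ∃ i : ℕ, g * q * g⁻¹ = q ^ i := by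
  have hu : g * q * g⁻¹ ∈ D.ker a := by
    have := D.conj_mem_ker g hq; rwa [hg] at this
  have hup : (g * q * g⁻¹) ^ p = 1 := by rw [conj_pow, hqp, mul_one, mul_inv_cancel]
  have hcomm := F.comm _ _ hu hq hup hqp
  have hub : (g * q * g⁻¹) • b ∈ D.blk a b := hu.2 b F.ne
  obtain ⟨i, -, hi⟩ := D.exists_pow hq hqp hq1 F.ne hub
  refine ⟨i, (inv_mul_eq_one.1 (F.cent hq hqp hq1
    (mul_mem (inv_mem ((D.ker a).pow_mem hq i)) hu) ?_ ?_)).symm⟩
  · calc (q ^ i)⁻¹ * (g * q * g⁻¹) * q = (q ^ i)⁻¹ * (q * (g * q * g⁻¹)) := by rw [mul_assoc, hcomm]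
      _ = ((q ^ i)⁻¹ * q) * (g * q * g⁻¹) := (mul_assoc _ _ _).symm
      _ = (q * (q ^ i)⁻¹) * (g * q * g⁻¹) := by
          rw [((Commute.refl q).pow_left i).inv_left.eq]
      _ = q * ((q ^ i)⁻¹ * (g * q * g⁻¹)) := mul_assoc _ _ _
  · rw [mul_smul, inv_smul_eq_iff]; exact hi.symm

/-- The point stabiliser of the kernel is abelian. -/
theorem Frob.Hs_comm {a b : Ω} (F : D.Frob a b) {n m : G} (hn : n ∈ D.Hs a b) (hm : m ∈ D.Hs a b) :
    n * m = m * n := by
  obtain ⟨q, hq, hqp, hq1⟩ := D.exists_q a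
  obtain ⟨i, hi⟩ := F.normalize hq hqp hq1 hn.1.1
  obtain ⟨j, hj⟩ := F.normalize hq hqp hq1 hm.1.1
  have h1 : (n * m) * q * (n * m)⁻¹ = (m * n) * q * (m * n)⁻¹ := by
    rw [show (n * m) * q * (n * m)⁻¹ = n * (m * q * m⁻¹) * n⁻¹ by group,
      show (m * n) * q * (m * n)⁻¹ = m * (n * q * n⁻¹) * m⁻¹ by group, hi, hj,
      ← conj_pow, ← conj_pow, hi, hj, ← pow_mul, ← pow_mul, mul_comm]
  have hc : (m * n)⁻¹ * (n * m) * q = q * ((m * n)⁻¹ * (n * m)) := by
    calc (m * n)⁻¹ * (n * m) * q = (m * n)⁻¹ * ((n * m) * q * (n * m)⁻¹) * (n * m) := by group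
      _ = q * ((m * n)⁻¹ * (n * m)) := by rw [h1]; group
  exact (inv_mul_eq_one.1 (F.cent hq hqp hq1
    (mul_mem (inv_mem (mul_mem hm.1 hn.1)) (mul_mem hn.1 hm.1)) hc
    (by rw [mul_smul, mul_smul, hm.2, hn.2, inv_smul_eq_iff, mul_smul, hn.2, hm.2]))).symm

/-- A stabiliser element fixing two points of a class fixes it pointwise. -/
theorem Frob.fix_class {a b : Ω} (F : D.Frob a b) {e : G} (hea : e • a = a) (heb : e • b = b)
    {z : Ω} (hz : z ∈ D.blk a b) (hzb : z ≠ b) (hez : e • z = z) :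
    ∀ w ∈ D.blk a b, e • w = w := by
  obtain ⟨q, hq, hqp, hq1⟩ := D.exists_q a
  obtain ⟨j, hjp, hj⟩ := D.exists_pow hq hqp hq1 F.ne hz
  have hj0 : ¬ p ∣ j := fun hd => hzb (by rw [← hj, (D.q_fix hq hqp hq1 F.ne j).2 hd])
  obtain ⟨i, hi⟩ := F.normalize hq hqp hq1 hea
  have hc : e * q ^ j * e⁻¹ = q ^ j := by
    have h2 : (q ^ j)⁻¹ * (e * q ^ j * e⁻¹) = 1 := by
      refine F.cent hq hqp hq1 (mul_mem (inv_mem ((D.ker a).pow_mem hq j)) ?_) ?_ ?_
      · rw [← conj_pow, hi]; exact pow_mem (pow_mem hq _) _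
      · rw [← conj_pow, hi]
        exact (((Commute.refl q).pow_left j).inv_left.mul_left
          (((Commute.refl q).pow_left i).pow_left j)).eq
      · rw [mul_smul, mul_smul, mul_smul, inv_smul_eq_iff.2 heb.symm, hj, hez, inv_smul_eq_iff]
        exact hj.symm
    exact (inv_mul_eq_one.1 h2).symm
  intro w hw
  obtain ⟨l, hlp, rfl⟩ := D.exists_pow hq hqp hq1 F.ne hw
  haveI : Fact p.Prime := ⟨D.prime⟩
  have hj' : (j : ZMod p) ≠ 0 := by rwa [Ne, ZMod.natCast_eq_zero_iff]
  obtain ⟨k, hk⟩ : ∃ k, j * k % p = l % p := ⟨((j : ZMod p)⁻¹ * l).val,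
    (ZMod.natCast_eq_natCast_iff' _ _ _).1 (by
      rw [Nat.cast_mul, ZMod.natCast_val, ZMod.cast_id, mul_inv_cancel_left₀ hj'])⟩
  have hql : q ^ l = (q ^ j) ^ k := by
    rw [← pow_mul, ← Nat.mod_add_div l p, ← Nat.mod_add_div (j * k) p, hk, pow_add, pow_add,
      pow_mul, pow_mul, hqp, one_pow, one_pow]
  have hck : Commute e (q ^ j) := mul_inv_eq_iff_eq_mul.1 hc
  rw [hql, ← mul_smul, (hck.pow_right k).eq, mul_smul, heb]

/-- An involution in the point stabiliser of the kernel inverts `q`. -/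
theorem Frob.invert {a b : Ω} (F : D.Frob a b) {q u : G} (hq : q ∈ D.ker a) (hqp : q ^ p = 1)
    (hq1 : q ≠ 1) (hu : u ∈ D.Hs a b) (huu : u * u = 1) (hu1 : u ≠ 1) : u * q * u⁻¹ = q⁻¹ := by
  obtain ⟨i, hi⟩ := F.normalize hq hqp hq1 hu.1.1
  have hinv : u⁻¹ = u := inv_eq_of_mul_eq_one_right huu
  have h2 : u * q ^ i * u⁻¹ = q := by
    rw [← hi, hinv, show u * (u * q * u) * u = (u * u) * q * (u * u) by group, huu, one_mul, mul_one]
  have hw : q * q ^ i = 1 := by
    by_contra hne
    have hmem : q * q ^ i ∈ D.ker a := mul_mem hq (pow_mem hq i)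
    have hpow : (q * q ^ i) ^ p = 1 := by
      rw [← pow_succ', ← pow_mul, mul_comm, pow_mul, hqp, one_pow]
    have hcomm : u * (q * q ^ i) * u⁻¹ = q * q ^ i := by
      rw [show u * (q * q ^ i) * u⁻¹ = (u * q * u⁻¹) * (u * q ^ i * u⁻¹) by group, h2, hi]
      exact ((Commute.refl q).pow_left i).eq
    have hne' : (q * q ^ i) • b ≠ b := fun h =>
      hne (D.semiregular F.ne hmem (t := 1) (by rw [pow_one]; exact hpow) h)
    refine hu1 (F.free u hu.1 hu.2 _ (hmem.2 b F.ne) hne' ?_)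
    rw [← mul_smul, mul_inv_eq_iff_eq_mul.1 hcomm, mul_smul, hu.2]
  rw [hi, eq_inv_of_mul_eq_one_right hw]

/-- There is at most one involution in the point stabiliser of the kernel. -/
theorem Frob.invol_unique {a b : Ω} (F : D.Frob a b) {u v : G} (hu : u ∈ D.Hs a b)
    (huu : u * u = 1) (hu1 : u ≠ 1) (hv : v ∈ D.Hs a b) (hvv : v * v = 1) (hv1 : v ≠ 1) :
    u = v := by
  obtain ⟨q, hq, hqp, hq1⟩ := D.exists_q a
  have hi := F.invert hq hqp hq1 hu huu hu1
  have hj := F.invert hq hqp hq1 hv hvv hv1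
  have hinv : v⁻¹ = v := inv_eq_of_mul_eq_one_right hvv
  refine (inv_mul_eq_one.1 (F.cent hq hqp hq1 (mul_mem (inv_mem hv.1) hu.1) ?_ ?_)).symm
  · refine mul_inv_eq_iff_eq_mul.1 ?_
    rw [hinv, show v * u * q * (v * u)⁻¹ = v * (u * q * u⁻¹) * v⁻¹ by group, hi,
      show v * q⁻¹ * v⁻¹ = (v * q * v⁻¹)⁻¹ by group, hj, inv_inv]
  · rw [mul_smul, hu.2, inv_smul_eq_iff, hv.2]

include D in
/-- The Frobenius case is impossible. -/
theorem not_frob (hp2 : p ≠ 2) {a b : Ω} (F : D.Frob a b) : False := by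
  classical
  have hb := F.ne
  haveI := Fintype.ofFinite G
  haveI : Fact (Nat.Prime 2) := ⟨Nat.prime_two⟩
  have hpodd : Odd p := D.prime.odd_of_ne_two hp2
  have hp3 : 3 ≤ p := by have := D.prime.two_le; omega
  obtain ⟨g, hga, hgb⟩ := D.two hb.symm hb
  -- a class other than the one of `b`
  obtain ⟨y0, hy0, hy0b⟩ : ∃ y, y ≠ a ∧ y ∉ D.blk a b := by
    obtain ⟨R, hR, hRne⟩ := exists_mem_ne
      (show 1 < (D.rows a).card by rw [D.card_rows]; omega) (D.blk a b)
    obtain ⟨y, hy, rfl⟩ := D.mem_rows.1 hR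
    exact ⟨y, hy, fun h => hRne (D.eq_of_mem hb h)⟩
  -- fixed points of the stabiliser elements
  have hout : ∀ {e : G}, e • a = a → e • b = b → ∀ {z}, z ≠ a → z ∉ D.blk a b →
      e • z ∈ D.blk a z → e ∈ D.Hs a b := fun hea heb z hz hzb hez =>
    ⟨F.rows _ hea b z hb hz hzb (by rw [heb]; exact D.mem_self hb) hez, heb⟩
  have hrowfix : ∀ u ∈ D.Hs a b, u * u = 1 → ∀ y, y ≠ a → ∃ z ∈ D.blk a y, u • z = z := by
    intro u hu huu y hy
    refine exists_fixed_of_odd (by rw [D.card_blk hy]; exact hpodd) (u • ·) (fun z hz => ?_)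
      (fun z _ => by rw [← mul_smul, huu, one_smul])
    have := hu.1.2 z (D.ne_of_mem hy hz)
    rwa [D.eq_of_mem hy hz] at this
  have hHfix : ∀ u ∈ D.Hs a b, u * u = 1 → u ≠ 1 → ∀ z, z ≠ a → u • z = z →
      ∀ n ∈ D.Hs a b, n • z = z := by
    intro u hu huu hu1 z hz huz n hn
    by_contra hne
    refine hu1 (F.free' hz hu.1 huz (hn.1.2 z hz) hne ?_)
    rw [← mul_smul, F.Hs_comm hu hn, mul_smul, huz]
  -- no involution fixes the class of `b` pointwise
  have hnoS1 : ∀ e : G, e • a = a → e • b = b → e * e = 1 →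
      (∀ w ∈ D.blk a b, e • w = w) → e = 1 := by
    intro e hea heb hee hfix
    by_contra he1
    have hva : (g * e * g⁻¹) • a = a := by
      rw [mul_smul, mul_smul, inv_smul_eq_iff.2 hgb.symm, heb, hgb]
    have hvb : (g * e * g⁻¹) • b = b := by
      rw [mul_smul, mul_smul, inv_smul_eq_iff.2 hga.symm, hea, hga]
    have hvfix : ∀ c ∈ D.blk b a, (g * e * g⁻¹) • c = c := by
      intro c hc
      have h1 : g⁻¹ • c ∈ D.blk a b := by
        rw [← D.blk_smul_mem g, hga, hgb, smul_inv_smul]; exact hc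
      rw [mul_smul, mul_smul, hfix _ h1, smul_inv_smul]
    by_cases hvk : g * e * g⁻¹ ∈ D.ker a
    · have hv1 : g * e * g⁻¹ ≠ 1 := fun h => he1 (conj_eq_one_iff.1 h)
      refine D.end_H hb ⟨_, ⟨hvk, hvb⟩, hv1⟩ fun n hn c hc => ?_
      by_cases hca : c = a
      · rw [hca]; exact hn.1.1
      exact hHfix _ ⟨hvk, hvb⟩ (by
        rw [show g * e * g⁻¹ * (g * e * g⁻¹) = g * (e * e) * g⁻¹ by group, hee, mul_one,
          mul_inv_cancel]) hv1 c hca (hvfix c hc) n hn
    · refine D.end1 hb.symm fun c hc hca => ?_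
      by_contra hcb
      exact hvk (hout hva hvb hca hcb (by rw [hvfix c hc]; exact D.mem_self hca)).1
  -- no involution in the kernel
  have hnoS2 : ∀ h ∈ D.Hs a b, h * h = 1 → h = 1 := by
    intro h hh hhh
    by_contra h1
    obtain ⟨z, hz, hhz⟩ := hrowfix h hh hhh y0 hy0
    have hza := D.ne_of_mem hy0 hz
    have hzb : z ∉ D.blk a b := fun hm => hy0b (by
      rw [← D.eq_of_mem hb hm, D.eq_of_mem hy0 hz]; exact D.mem_self hy0)
    -- the image under the swap
    set v := g * h * g⁻¹ with hv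
    have hva : v • a = a := by rw [hv, mul_smul, mul_smul, inv_smul_eq_iff.2 hgb.symm, hh.2, hgb]
    have hvb : v • b = b := by rw [hv, mul_smul, mul_smul, inv_smul_eq_iff.2 hga.symm, hh.1.1, hga]
    have hvv : v * v = 1 := by
      rw [hv, show g * h * g⁻¹ * (g * h * g⁻¹) = g * (h * h) * g⁻¹ by group, hhh, mul_one,
        mul_inv_cancel]
    have hv1 : v ≠ 1 := fun hc => h1 (conj_eq_one_iff.1 hc)
    have hzne : g • z ≠ b := fun hc => hza (MulAction.injective g (hc.trans hga.symm))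
    have hzneb : z ≠ b := fun hc => hzb (by rw [hc]; exact D.mem_self hb)
    have hgza : g • z ≠ a := fun hc => hzneb (MulAction.injective g (hc.trans hgb.symm))
    have hvz : v • g • z = g • z := by rw [hv, mul_smul, mul_smul, inv_smul_smul, hhz]
    have hvH : v ∈ D.Hs a b := by
      by_cases hm : g • z ∈ D.blk a b
      · exact absurd (hnoS1 v hva hvb hvv (F.fix_class hva hvb hm hzne hvz)) hv1
      · exact hout hva hvb hgza hm (by rw [hvz]; exact D.mem_self hgza)
    have hvh : v = h := F.invol_unique hvH hvv hv1 hh hhh h1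
    refine h1 (D.fam_trivial D.Hs D.Hs_conj (fun x y _ u hu => ⟨hu.1.1, hu.2⟩)
      (fun x y w _ _ hw u hu => ⟨hu.1, hw u hu⟩) hb.symm hza
      hzneb (hHfix h hh hhh h1 z hza hhz) (fun w => ?_) h hh)
    have hfixset : ∀ w : Ω, (∀ u ∈ D.Hs a b, u • w = w) ↔ h • w = w := by
      intro w
      refine ⟨fun hw => hw h hh, fun hw u hu => ?_⟩
      by_cases hwa : w = a
      · rw [hwa]; exact hu.1.1
      exact hHfix h hh hhh h1 w hwa hw u hu
    rw [hfixset]
    have hconj : ∀ u ∈ D.Hs b a, g⁻¹ * u * g ∈ D.Hs a b := by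
      intro u hu
      have := D.Hs_conj g⁻¹ b a u hu
      rwa [inv_smul_eq_iff.2 hga.symm, inv_smul_eq_iff.2 hgb.symm, inv_inv] at this
    constructor
    · intro hw u hu
      have h2 : h • g⁻¹ • w = g⁻¹ • w := by
        have h3 : v • w = w := hvh ▸ hw
        rw [hv, mul_smul, mul_smul, smul_eq_iff_eq_inv_smul] at h3
        exact h3
      have h4 := (hfixset (g⁻¹ • w)).2 h2 _ (hconj u hu)
      rw [mul_smul, mul_smul, smul_inv_smul] at h4
      exact MulAction.injective g⁻¹ h4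
    · intro hw
      have hmem : v ∈ D.Hs b a := by
        have := D.Hs_conj g a b h hh
        rwa [hga, hgb] at this
      rw [← hvh]
      exact hw v hmem
  -- the type of the remaining involutions
  have htype : ∀ e : G, e • a = a → e • b = b → e * e = 1 → e ≠ 1 →
      ∀ z : Ω, e • z = z ↔ z = a ∨ z = b := by
    refine fun e hea heb hee he1 z =>
      ⟨fun hz => ?_, fun h => by rcases h with rfl | rfl <;> assumption⟩
    by_contra hne
    push Not at hne
    by_cases hm : z ∈ D.blk a b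
    · exact he1 (hnoS1 e hea heb hee (F.fix_class hea heb hm hne.2 hz))
    · exact he1 (hnoS2 e (hout hea heb hne.1 hm (by rw [hz]; exact D.mem_self hne.1)) hee)
  -- there is an involution
  obtain ⟨t, hta, htb, htt, ht1⟩ : ∃ t : G, t • a = a ∧ t • b = b ∧ t * t = 1 ∧ t ≠ 1 := by
    by_contra hno
    push Not at hno
    have hoddp : ∀ k : G, k • a = a → k • b = b → Odd (orderOf k) := by
      intro k hka hkb
      rw [← Nat.not_even_iff_odd]
      intro he
      have hord := orderOf_pow_orderOf_div (orderOf_pos k).ne' he.two_dvd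
      have hfix : ∀ (n : ℕ) (w : Ω), k • w = w → k ^ n • w = w := by
        intro n w hw
        induction n with
        | zero => simp
        | succ n ih => rw [pow_succ, mul_smul, hw, ih]
      set t := k ^ (orderOf k / 2) with ht
      have h2 : t * t = 1 := by rw [← sq, ← hord, pow_orderOf_eq_one]
      have := hno t (hfix _ _ hka) (hfix _ _ hkb) h2
      rw [this, orderOf_one] at hord
      norm_num at hord
    obtain ⟨r, hr⟩ := hpodd
    refine not_odd_stabilizer (m := 2 * r ^ 2 + 2 * r + 1) (Ω := Ω) ?_ ⟨r ^ 2 + r, by ring⟩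
      (by rw [D.card_eq]; have : 3 * p ≤ p ^ 2 := (by rw [sq]; exact Nat.mul_le_mul_right p hp3); omega)
      D.faithful D.two (fun k x hkx => ?_)
    · rw [D.card_eq, hr]; ring
    -- an element fixing one point has odd order
    rw [← Nat.not_even_iff_odd]
    intro he
    have hord := orderOf_pow_orderOf_div (orderOf_pos k).ne' he.two_dvd
    set t := k ^ (orderOf k / 2) with ht
    have htx : t • x = x := by
      have : ∀ n : ℕ, k ^ n • x = x := by
        intro n
        induction n with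
        | zero => simp
        | succ n ih => rw [pow_succ, mul_smul, hkx, ih]
      exact this _
    have htt : t * t = 1 := by rw [← sq, ← hord, pow_orderOf_eq_one]
    -- it fixes a second point, as the number of other points is odd
    obtain ⟨y, hy, hty⟩ : ∃ y ∈ univ.erase x, t • y = y := by
      refine exists_fixed_of_odd ?_ (t • ·) (fun y hy => mem_erase.2
        ⟨fun h => ne_of_mem_erase hy (MulAction.injective t (h.trans htx.symm)), mem_univ _⟩)
        (fun y _ => by rw [← mul_smul, htt, one_smul])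
      rw [card_erase_of_mem (mem_univ _), card_univ, D.card_eq, Nat.add_sub_cancel]
      exact Odd.pow ⟨r, hr⟩
    obtain ⟨l, hl1, hl2⟩ := D.two (ne_of_mem_erase hy).symm hb.symm
    have := hoddp (l * t * l⁻¹) (by rw [← hl1, mul_smul, mul_smul, inv_smul_smul, htx])
      (by rw [← hl2, mul_smul, mul_smul, inv_smul_smul, hty])
    have ho : orderOf (l * t * l⁻¹) = 2 := by
      rw [← hord]
      exact orderOf_injective (MulAut.conj l).toMonoidHom (MulAut.conj l).injective t
    rw [ho] at this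
    exact absurd this (by decide)
  -- the subgroup fixing the class pointwise
  let E : Finset G := univ.filter fun e => e • a = a ∧ e • b = b
  let E1 : Finset G := E.filter fun e => ∀ w ∈ D.blk a b, e • w = w
  obtain ⟨z0, hz0, hz0b⟩ := exists_mem_ne (show 1 < (D.blk a b).card by
    rw [D.card_blk hb]; omega) b
  have hE : ∀ {e : G}, e ∈ E ↔ e • a = a ∧ e • b = b := fun {e} => by simp [E]
  have hE1 : ∀ {e : G}, e ∈ E1 ↔ (e • a = a ∧ e • b = b) ∧ ∀ w ∈ D.blk a b, e • w = w :=
    fun {e} => by simp [E1, E]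
  have hdiv : ∀ e ∈ E, ∀ e' ∈ E, e'⁻¹ * e ∈ E := fun e he e' he' => by
    obtain ⟨h1, h2⟩ := hE.1 he
    obtain ⟨h1', h2'⟩ := hE.1 he'
    exact hE.2 ⟨by rw [mul_smul, h1, inv_smul_eq_iff, h1'],
      by rw [mul_smul, h2, inv_smul_eq_iff, h2']⟩
  have hEcard : E.card ≤ (p - 1) * E1.card := by
    have himg : (E.image fun e => e • z0).card ≤ p - 1 := by
      rw [← D.card_blk hb, ← card_erase_of_mem (D.mem_self hb)]
      refine card_le_card fun w hw => ?_
      obtain ⟨e, he, rfl⟩ := mem_image.1 hw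
      obtain ⟨h1, h2⟩ := hE.1 he
      refine mem_erase.2 ⟨fun h => hz0b (MulAction.injective e (h.trans h2.symm)), ?_⟩
      have := D.smul_mem e hz0
      rwa [h1, h2] at this
    refine le_trans (card_le_mul_card_image E E1.card fun w hw => ?_)
      (le_trans (Nat.mul_le_mul_left _ himg) (le_of_eq (mul_comm _ _)))
    obtain ⟨e0, he0, rfl⟩ := mem_image.1 hw
    refine card_le_card_of_injOn (fun e => e0⁻¹ * e) (fun e he => ?_)
      (fun e _ e' _ h => mul_left_cancel h)
    obtain ⟨he', hez⟩ := mem_filter.1 he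
    obtain ⟨h1, h2⟩ := hE.1 (hdiv e he' e0 he0)
    exact hE1.2 ⟨⟨h1, h2⟩, F.fix_class h1 h2 hz0 hz0b
      (by rw [mul_smul, hez, inv_smul_smul])⟩
  -- half a class-count bound
  have htw : ∀ w ∈ D.blk a b, t • w ∈ D.blk a b := fun w hw => by
    have := D.smul_mem t hw; rwa [hta, htb] at this
  have htz0 : t • z0 ≠ z0 := fun h => by
    rcases (htype t hta htb htt ht1 z0).1 h with h' | h'
    · exact D.ne_of_mem hb hz0 h'
    · exact hz0b h'
  have hE1half : 2 * E1.card ≤ p - 1 := by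
    have hEt : ∀ e ∈ E1, e * t ∈ E := fun e he => by
      obtain ⟨⟨h1, h2⟩, -⟩ := hE1.1 he
      exact hE.2 ⟨by rw [mul_smul, hta, h1], by rw [mul_smul, htb, h2]⟩
    let T := E1 ∪ E1.image (· * t)
    have hdisj : Disjoint E1 (E1.image (· * t)) := by
      rw [Finset.disjoint_left]
      intro e he he'
      obtain ⟨e2, he2, rfl⟩ := mem_image.1 he'
      have h3 := (hE1.1 he).2 z0 hz0
      rw [mul_smul, (hE1.1 he2).2 _ (htw _ hz0)] at h3
      exact htz0 h3
    have hTE : ∀ e ∈ T, e ∈ E := fun e he => by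
      rcases mem_union.1 he with h | h
      · exact hE.2 (hE1.1 h).1
      · obtain ⟨e2, he2, rfl⟩ := mem_image.1 h; exact hEt e2 he2
    -- squares of elements of `T` fix the class
    have hTfix : ∀ e ∈ T, ∀ e' ∈ T, ∀ w ∈ D.blk a b,
        (e'⁻¹ * e) • w = w ∨ (e'⁻¹ * e) • w = t • w := by
      have hact : ∀ e ∈ T, (∀ w ∈ D.blk a b, e • w = w) ∨ (∀ w ∈ D.blk a b, e • w = t • w) := by
        intro e he
        rcases mem_union.1 he with h | h
        · exact Or.inl (hE1.1 h).2
        · obtain ⟨e2, he2, rfl⟩ := mem_image.1 h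
          exact Or.inr fun w hw => by rw [mul_smul, (hE1.1 he2).2 _ (htw w hw)]
      intro e he e' he' w hw
      have htt' : t • t • w = w := by rw [← mul_smul, htt, one_smul]
      rcases hact e he with h | h <;> rcases hact e' he' with h' | h'
      · left; rw [mul_smul, h w hw, inv_smul_eq_iff, h' w hw]
      · right; rw [mul_smul, h w hw, inv_smul_eq_iff, h' _ (htw w hw), htt']
      · right; rw [mul_smul, h w hw, inv_smul_eq_iff, h' _ (htw w hw)]
      · left; rw [mul_smul, h w hw, inv_smul_eq_iff, h' w hw]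
    have hinj : Set.InjOn (fun e : G => D.blk a (e • y0)) ↑T := by
      intro e he e' he' heq
      obtain ⟨h1, h2⟩ := hE.1 (hdiv e (hTE e he) e' (hTE e' he'))
      obtain ⟨hea, heb⟩ := hE.1 (hTE e he)
      obtain ⟨he'a, he'b⟩ := hE.1 (hTE e' he')
      have hney : e • y0 ≠ a := fun h => hy0 (MulAction.injective e (h.trans hea.symm))
      have hrow : (e'⁻¹ * e) • y0 ∈ D.blk a y0 := by
        have h3 : e • y0 ∈ D.blk a (e' • y0) := by
          rw [show D.blk a (e' • y0) = D.blk a (e • y0) from Eq.symm heq]; exact D.mem_self hney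
        have h4 := D.smul_mem e'⁻¹ h3
        rwa [inv_smul_smul, inv_smul_eq_iff.2 he'a.symm, ← mul_smul] at h4
      have hn := hout h1 h2 hy0 hy0b hrow
      have hsq : (e'⁻¹ * e) * (e'⁻¹ * e) = 1 := by
        refine D.faith hb (mul_mem hn.1 hn.1) fun w hw => ?_
        rw [mul_smul]
        rcases hTfix e he e' he' w hw with h | h
        · rw [h, h]
        · rw [h]
          rcases hTfix e he e' he' _ (htw w hw) with h' | h'
          · have h5 : t • w = w := MulAction.injective (e'⁻¹ * e) (h'.trans h.symm)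
            rw [h5, h, h5]
          · rw [h', ← mul_smul, htt, one_smul]
      exact (inv_mul_eq_one.1 (hnoS2 _ hn hsq)).symm
    have h5 : T.card ≤ ((D.rows a).erase (D.blk a b)).card := by
      refine card_le_card_of_injOn (fun e : G => D.blk a (e • y0)) (fun e he => ?_) hinj
      obtain ⟨hea, heb⟩ := hE.1 (hTE e he)
      have hney : e • y0 ≠ a := fun h => hy0 (MulAction.injective e (h.trans hea.symm))
      refine mem_erase.2 ⟨fun hh => hy0b ?_, D.mem_rows.2 ⟨_, hney, rfl⟩⟩
      rw [← D.blk_smul_mem e, hea, heb, ← hh]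
      exact D.mem_self hney
    rw [card_union_of_disjoint hdisj, card_image_of_injective _ (mul_left_injective t),
      card_erase_of_mem (D.mem_rows.2 ⟨b, hb, rfl⟩), D.card_rows] at h5
    omega
  -- count
  have hcount := involution_count (G := G) (Ω := Ω) (m := E.card) (fun x y hxy => ?_)
    (fun z w hzw => ?_) (by rw [D.card_eq]; have := D.prime.two_le; nlinarith)
  · rw [D.card_eq] at hcount
    have h1 : 2 * E.card ≤ (p - 1) * (p - 1) := by
      calc 2 * E.card ≤ 2 * ((p - 1) * E1.card) := Nat.mul_le_mul_left _ hEcard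
        _ = (p - 1) * (2 * E1.card) := by ring
        _ ≤ (p - 1) * (p - 1) := Nat.mul_le_mul_left _ hE1half
    obtain ⟨m, rfl⟩ : ∃ m, p = m + 1 := ⟨p - 1, by omega⟩
    rw [Nat.add_sub_cancel] at h1
    have h2 : (m + 1) ^ 2 + 1 - 2 = m * m + 2 * m := by
      have : (m + 1) ^ 2 = m * m + 2 * m + 1 := by ring
      omega
    omega
  · obtain ⟨l, rfl, rfl⟩ := D.two hb.symm hxy
    refine ⟨l * t * l⁻¹, ?_, fun z => ?_⟩
    · rw [show l * t * l⁻¹ * (l * t * l⁻¹) = l * (t * t) * l⁻¹ by group, htt, mul_one,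
        mul_inv_cancel]
    · rw [mul_smul, mul_smul, smul_eq_iff_eq_inv_smul, htype t hta htb htt ht1, inv_smul_eq_iff,
        inv_smul_eq_iff]
  · obtain ⟨l, rfl, rfl⟩ := D.two hb.symm hzw
    rw [← Nat.card_eq_finsetCard]
    refine le_of_eq (Nat.card_congr ?_)
    refine (Equiv.subtypeEquiv (MulAut.conj l⁻¹).toEquiv fun x => ?_)
    simp [E, mul_smul, smul_eq_iff_eq_inv_smul]

end Setup

end Cfsg.Agent.TwoTransSq
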