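import Mathlib
import Cfsg.Agent.TwoTransSq.Ends
import Cfsg.Agent.Perm.AutFromNormalizer
import Cfsg.Agent.Perm.PrimeDegree

/-!
# The case of a 2-transitive kernel and Frobenius action on the classes
-/

set_option autoImplicit false
set_option linter.style.haveILetI false

namespace Cfsg.Agent.TwoTransSq.Setup

open Finset

variable {G Ω : Type*} [Group G] [MulAction G Ω] [Fintype Ω] [DecidableEq Ω] {p : ℕ}
variable (D : Setup G Ω p) [Finite G]

include D in
/-- Classes can be permuted by elements of odd order. -/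
theorem exists_odd_order (hp2 : p ≠ 2) {a b c : Ω} (hb : b ≠ a) (hc : c ≠ a) :
    ∃ x : G, x • a = a ∧ Odd (orderOf x) ∧ x • b ∈ D.blk a c := by
  classical
  haveI : Fact p.Prime := ⟨D.prime⟩
  let ρ := MulAction.toPermHom (MulAction.stabilizer G a) (D.Row a)
  haveI : MulAction.IsPretransitive ρ.range (D.Row a) := ⟨fun R R' => by
    obtain ⟨g, hg⟩ := MulAction.exists_smul_eq (MulAction.stabilizer G a) R R'
    exact ⟨⟨ρ g, g, rfl⟩, hg⟩⟩
  have hcard : Fintype.card (D.Row a) = p := by rw [Fintype.card_coe, D.card_rows]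
  obtain ⟨σ, ⟨k, rfl⟩, hσ1, hσp⟩ := CfsgLib.Perm.PrimeDegree.exists_cycle hcard ρ.range
  obtain ⟨v, o, ho, hkord⟩ := Nat.exists_eq_two_pow_mul_odd (orderOf_pos k).ne'
  set x0 := k ^ 2 ^ v with hx0
  have hx0ord : Odd (orderOf x0) := by
    rw [hx0, orderOf_pow]
    rw [hkord, Nat.gcd_eq_right (dvd_mul_right _ _), Nat.mul_div_cancel_left _ (by positivity)]
    exact ho
  have hτ : ρ x0 ≠ 1 := by
    intro h
    rw [hx0, map_pow] at h
    have h1 := orderOf_dvd_of_pow_eq_one h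
    have h2 : orderOf (ρ k) = p := orderOf_eq_prime hσp hσ1
    rw [h2] at h1
    exact hp2 ((Nat.prime_dvd_prime_iff_eq D.prime Nat.prime_two).1 (D.prime.dvd_of_dvd_pow h1))
  have hτp : ρ x0 ^ p = 1 := by
    rw [hx0, map_pow, ← pow_mul, mul_comm, pow_mul, hσp, one_pow]
  obtain ⟨e, he⟩ := CfsgLib.Perm.PrimeDegree.exists_coord hcard hτ hτp
  have hpow : ∀ (i : ℕ) (j : ZMod p), (ρ x0 ^ i) (e j) = e (j + i) := by
    intro i
    induction i with
    | zero => intro j; simp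
    | succ i ih =>
      intro j
      rw [pow_succ', Equiv.Perm.mul_apply, ih, he]
      push_cast
      ring_nf
  obtain ⟨jb, hjb⟩ := e.surjective (D.rowOf hb)
  obtain ⟨jc, hjc⟩ := e.surjective (D.rowOf hc)
  set i := (jc - jb).val with hi
  have hmove : x0 ^ i • D.rowOf hb = D.rowOf hc := by
    have h := hpow i jb
    rw [ZMod.natCast_val, ZMod.cast_id, add_sub_cancel, hjb, hjc, ← map_pow] at h
    exact h
  refine ⟨((x0 ^ i : MulAction.stabilizer G a) : G), MulAction.mem_stabilizer_iff.1 (x0 ^ i).2, ?_, ?_⟩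
  · rw [Subgroup.orderOf_coe]
    exact hx0ord.of_dvd_nat (orderOf_pow_dvd i)
  · have h := congrArg Subtype.val hmove
    rw [smul_rowOf] at h
    show ((x0 ^ i : MulAction.stabilizer G a) : G) • b ∈ D.blk a c
    rw [show D.blk a c = ((D.rowOf hc : D.Row a) : Finset Ω) from rfl, ← h]
    exact D.mem_self fun hh => hb (MulAction.injective _
      (hh.trans (MulAction.mem_stabilizer_iff.1 (x0 ^ i).2).symm))

include D in
/-- A proper orbit of the point stabiliser of a 2-transitive kernel gives a further fixed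
point. -/
theorem exists_fixed (hp2 : p ≠ 2) {a b c : Ω} (hb : b ≠ a) (hc : c ≠ a)
    (htwo : ∀ z z', z ∈ D.blk a b → z' ∈ D.blk a b → z ≠ b → z' ≠ b →
      ∃ n ∈ D.ker a, n • b = b ∧ n • z = z')
    {w : Ω} (hw : w ∈ D.blk a c) (hout : ∀ u ∈ D.Hs a b, u • c ≠ w) :
    ∃ z ∈ D.blk a c, ∀ u ∈ D.Hs a b, u • z = z := by
  classical
  haveI : Fact p.Prime := ⟨D.prime⟩
  obtain ⟨x, hxa, hxodd, hxb⟩ := D.exists_odd_order hp2 hb hc
  have hxiff : ∀ {y : Ω}, x • y ∈ D.blk a c ↔ y ∈ D.blk a b := by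
    intro y
    have h := D.blk_smul_mem x (x := a) (y := b) (z := y)
    rw [hxa, ← D.eq_of_mem hc hxb] at *
    exact h
  have hmem : ∀ (g : D.ker a) {y : Ω}, y ∈ D.blk a b → (g : G) • y ∈ D.blk a b := fun g y hy => by
    have := g.2.2 y (D.ne_of_mem hb hy)
    rwa [D.eq_of_mem hb hy] at this
  let X : SubMulAction (D.ker a) Ω :=
    { carrier := (D.blk a b : Set Ω), smul_mem' := fun g _ hy => hmem g hy }
  letI : Fintype X := Fintype.ofFinite X
  have hcardX : Fintype.card X = p := by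
    rw [← Nat.card_eq_fintype_card]
    refine Eq.trans ?_ (D.card_blk hb)
    rw [← Nat.card_eq_finsetCard]
    rfl
  obtain ⟨q, hq, hqp, hq1⟩ := D.exists_q a
  have h2 : MulAction.IsMultiplyPretransitive (D.ker a) X 2 := by
    rw [MulAction.is_two_pretransitive_iff]
    intro y1 y2 z1 z2 hy hz
    let o : X := ⟨b, D.mem_self hb⟩
    have htrans : ∀ y : X, ∃ g : D.ker a, g • y = o := fun y => by
      obtain ⟨i, -, hi⟩ := D.exists_pow hq hqp hq1 (D.ne_of_mem hb y.2)
        (show b ∈ D.blk a y by rw [D.eq_of_mem hb y.2]; exact D.mem_self hb)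
      exact ⟨⟨q ^ i, (D.ker a).pow_mem hq i⟩, Subtype.ext hi⟩
    obtain ⟨g1, hg1⟩ := htrans y1
    obtain ⟨g2, hg2⟩ := htrans z1
    obtain ⟨n, hn, hnb, hn2⟩ := htwo (g1 • y2 : X) (g2 • z2 : X) (g1 • y2).2 (g2 • z2).2
      (fun h => hy (MulAction.injective g1 (hg1.trans (Subtype.ext h).symm)))
      (fun h => hz (MulAction.injective g2 (hg2.trans (Subtype.ext h).symm)))
    refine ⟨g2⁻¹ * ⟨n, hn⟩ * g1, ?_, ?_⟩
    · rw [mul_smul, mul_smul, hg1, inv_smul_eq_iff, hg2]; exact Subtype.ext hnb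
    · rw [mul_smul, mul_smul, inv_smul_eq_iff]; exact Subtype.ext hn2
  have hxinv : x⁻¹ • a = a := inv_smul_eq_iff.2 hxa.symm
  have hconj : ∀ n ∈ D.ker a, x⁻¹ * n * x ∈ D.ker a := fun n hn => by
    have h1 := D.conj_mem_ker x⁻¹ hn
    rwa [hxinv, inv_inv] at h1
  have hconj' : ∀ n ∈ D.ker a, x * n * x⁻¹ ∈ D.ker a := fun n hn => by
    have h1 := D.conj_mem_ker x hn
    rwa [hxa] at h1
  let α : MulAut (D.ker a) :=
    { toFun := fun n => ⟨x⁻¹ * n * x, hconj _ n.2⟩
      invFun := fun n => ⟨x * n * x⁻¹, hconj' _ n.2⟩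
      left_inv := fun n => Subtype.ext (show x * (x⁻¹ * (n : G) * x) * x⁻¹ = n by group)
      right_inv := fun n => Subtype.ext (show x⁻¹ * (x * (n : G) * x⁻¹) * x = n by group)
      map_mul' := fun n m => Subtype.ext
        (show x⁻¹ * ((n : G) * m) * x = x⁻¹ * n * x * (x⁻¹ * m * x) by group) }
  have hαpow : ∀ (i : ℕ) (n : D.ker a), (((α ^ i) n : D.ker a) : G) = (x ^ i)⁻¹ * n * x ^ i := by
    intro i
    induction i with
    | zero => intro n; simp
    | succ i ih =>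
      intro n
      rw [pow_succ', MulAut.mul_apply]
      show x⁻¹ * (((α ^ i) n : D.ker a) : G) * x = _
      rw [ih, pow_succ]
      group
  have hαodd : Odd (orderOf α) := by
    refine hxodd.of_dvd_nat (orderOf_dvd_of_pow_eq_one (MulEquiv.ext fun n => Subtype.ext ?_))
    rw [hαpow, pow_orderOf_eq_one, MulAut.one_apply]
    group
  let o : X := ⟨b, D.mem_self hb⟩
  let ω : X := ⟨x⁻¹ • c, show x⁻¹ • c ∈ D.blk a b by
    rw [← hxiff, smul_inv_smul]; exact D.mem_self hc⟩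
  set K := (MulAction.stabilizer (D.ker a) o).map α.toMonoidHom with hK
  have hKmem : ∀ m ∈ K, x * (m : D.ker a) * x⁻¹ ∈ D.Hs a b := by
    rintro _ ⟨n, hn, rfl⟩
    show x * (x⁻¹ * (n : G) * x) * x⁻¹ ∈ D.Hs a b
    rw [show x * (x⁻¹ * (n : G) * x) * x⁻¹ = n by group]
    exact ⟨n.2, congrArg Subtype.val hn⟩
  have hk : (Nat.card (MulAction.orbit K ω)).Coprime (Fintype.card X) := by
    rw [hcardX, Nat.coprime_comm, D.prime.coprime_iff_not_dvd]
    intro hd
    have hpos : 0 < Nat.card (MulAction.orbit K ω) := by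
      haveI : Nonempty (MulAction.orbit K ω) := ⟨⟨ω, MulAction.mem_orbit_self _⟩⟩
      exact Nat.card_pos
    have hle : Nat.card (MulAction.orbit K ω) < p := by
      refine lt_of_lt_of_eq ?_ hcardX
      rw [← Nat.card_eq_fintype_card, Nat.card_coe_set_eq, ← Set.ncard_univ]
      refine Set.ncard_lt_ncard (Set.ssubset_univ_iff.2 fun h => ?_) (Set.toFinite _)
      have hwX : (⟨x⁻¹ • w, show x⁻¹ • w ∈ D.blk a b by
          rw [← hxiff, smul_inv_smul]; exact hw⟩ : X) ∈ MulAction.orbit K ω := by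
        rw [h]; trivial
      obtain ⟨m, hm⟩ := hwX
      refine hout _ (hKmem m m.2) ?_
      have hm' : ((m : D.ker a) : G) • x⁻¹ • c = x⁻¹ • w := congrArg Subtype.val hm
      rw [mul_smul, mul_smul, hm', smul_inv_smul]
    exact absurd (Nat.le_of_dvd hpos hd) (by omega)
  obtain ⟨z, hz⟩ := CfsgLib.Perm.AutNormalizer.exists_fixed_of_coprime_orbit h2 o ω α hαodd hk
  refine ⟨x • (z : Ω), hxiff.2 z.2, fun u hu => ?_⟩
  have h1 := congrArg Subtype.val (hz (α ⟨u, hu.1⟩) ⟨⟨u, hu.1⟩, Subtype.ext hu.2, rfl⟩)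
  have h1' : (x⁻¹ * u * x) • (z : Ω) = (z : Ω) := h1
  rw [mul_smul, mul_smul, inv_smul_eq_iff] at h1'
  exact h1'

include D in
/-- The kernel is not 2-transitive if the classes are permuted as a Frobenius group. -/
theorem not_ker_two (hp2 : p ≠ 2) {a b : Ω} (hb : b ≠ a)
    (haff : ∀ g : G, g • a = a → ∀ y z, y ≠ a → z ≠ a → z ∉ D.blk a y → g • y ∈ D.blk a y →
      g • z ∈ D.blk a z → g ∈ D.ker a)
    (htwo : ∀ z z', z ∈ D.blk a b → z' ∈ D.blk a b → z ≠ b → z' ≠ b →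
      ∃ n ∈ D.ker a, n • b = b ∧ n • z = z') : False := by
  classical
  have h3 : 1 < ((D.blk a b).erase b).card := by
    rw [card_erase_of_mem (D.mem_self hb), D.card_blk hb]
    have := D.prime.two_le
    omega
  obtain ⟨z1, hz1, z2, hz2, hz12⟩ := one_lt_card.1 h3
  rw [mem_erase] at hz1 hz2
  obtain ⟨n0, hn0, hn0b, hn0z⟩ := htwo z1 z2 hz1.2 hz2.2 hz1.1 hz2.1
  have hH : ∃ u ∈ D.Hs a b, u ≠ 1 :=
    ⟨n0, ⟨hn0, hn0b⟩, fun h => hz12 (by rw [← hn0z, h, one_smul])⟩
  have hHA : ∀ u ∈ D.Hs a b, ∀ c ∈ D.blk b a, u • c ∈ D.blk b a := fun u hu c hc => by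
    have := D.smul_mem u hc
    rwa [hu.2, hu.1.1] at this
  -- the class of `a` at `b` is outside the class of `b` at `a`
  have hdisj : ∀ c ∈ D.blk b a, c ≠ a → c ∉ D.blk a b := by
    intro c hc hca hcb
    refine D.end1 hb fun z hz hzb => ?_
    obtain ⟨n, hn, hnb, hnz⟩ := htwo c z hcb hz (D.ne_of_mem hb.symm hc) hzb
    rw [← hnz]
    exact hHA n ⟨hn, hnb⟩ c hc
  -- a moved point
  obtain ⟨u, hu, c, hc, huc⟩ : ∃ u ∈ D.Hs a b, ∃ c ∈ D.blk b a, u • c ≠ c := by
    by_contra h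
    push Not at h
    exact D.end_H hb hH h
  have hca : c ≠ a := fun h => huc (by rw [h]; exact hu.1.1)
  have hA : ∀ v ∈ D.Hs a b, v • c ≠ a := fun v hv h =>
    hca (MulAction.injective v (h.trans hv.1.1.symm))
  -- a point of the class missed by the orbit
  obtain ⟨w, hw, hout⟩ : ∃ w ∈ D.blk a c, ∀ v ∈ D.Hs a b, v • c ≠ w := by
    by_contra h
    push Not at h
    have hsub : D.blk a c ⊆ (D.blk b a).erase a := fun w hw => by
      obtain ⟨v, hv, rfl⟩ := h w hw
      exact mem_erase.2 ⟨hA v hv, hHA v hv c hc⟩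
    have := card_le_card hsub
    rw [card_erase_of_mem (D.mem_self hb.symm), D.card_blk hb.symm, D.card_blk hca] at this
    have := D.prime.pos
    omega
  obtain ⟨z, hz, hzfix⟩ := D.exists_fixed hp2 hb hca htwo hw hout
  have hza := D.ne_of_mem hca hz
  have hzb : z ≠ b := fun h => hdisj c hc hca (by
    rw [h] at hz
    rw [D.eq_of_mem hca hz]
    exact D.mem_self hca)
  have heq := D.Hs_eq hb hza hzfix
  have hcz : c ≠ z := fun h => huc (by rw [h]; exact hzfix u hu)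
  -- the whole class, except `z`, lies in the class of `a` at `b`
  obtain ⟨k, hka, hkz⟩ := D.two' hb hza
  have hsub : (D.blk a c).erase z ⊆ (D.blk b a).erase a := by
    intro y hy
    obtain ⟨hyz, hyc⟩ := mem_erase.1 hy
    have hback : ∀ y', y' ∈ D.blk a c → y' ≠ z → k⁻¹ • y' ∈ D.blk a b ∧ k⁻¹ • y' ≠ b := by
      intro y' hy' hy'z
      refine ⟨?_, fun h => hy'z (by rw [← hkz, ← h, smul_inv_smul])⟩
      rw [← D.blk_smul_mem k, hka, hkz, smul_inv_smul, D.eq_of_mem hca hz]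
      exact hy'
    obtain ⟨h1, h2⟩ := hback c (D.mem_self hca) hcz
    obtain ⟨h3, h4⟩ := hback y hyc hyz
    obtain ⟨n, hn, hnb, hnc⟩ := htwo _ _ h1 h3 h2 h4
    have hv : k * n * k⁻¹ ∈ D.Hs a b := by
      have h5 := D.Hs_conj k a b n ⟨hn, hnb⟩
      rwa [hka, hkz, ← heq] at h5
    have hvy : (k * n * k⁻¹) • c = y := by rw [mul_smul, mul_smul, hnc, smul_inv_smul]
    rw [← hvy]
    exact mem_erase.2 ⟨hA _ hv, hHA _ hv c hc⟩
  have hAeq : (D.blk a c).erase z = (D.blk b a).erase a := by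
    refine eq_of_subset_of_card_le hsub (le_of_eq ?_)
    rw [card_erase_of_mem hz, card_erase_of_mem (D.mem_self hb.symm), D.card_blk hca,
      D.card_blk hb.symm]
  -- the stabiliser of two points lies in the kernel
  have hEH : ∀ e ∈ D.Es a b, e ∈ D.Hs a b := by
    rintro e ⟨hea, heb⟩
    refine ⟨haff e hea b c hb hca (hdisj c hc hca) (by rw [heb]; exact D.mem_self hb) ?_, heb⟩
    have h1 : e • c ∈ (D.blk b a).erase a := by
      refine mem_erase.2 ⟨fun h => hca (MulAction.injective e (h.trans hea.symm)), ?_⟩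
      have := D.smul_mem e hc
      rwa [heb, hea] at this
    rw [← hAeq] at h1
    exact mem_of_mem_erase h1
  obtain ⟨v, hv, hv1⟩ := hH
  refine hv1 (D.fam_trivial D.Es D.Es_conj (fun x y _ e he => he)
    (fun x y y' _ _ h e he => ⟨he.1, h e he⟩) hb.symm hza hzb
    (fun e he => hzfix e (hEH e he)) (fun y => ?_) v ⟨hv.1.1, hv.2⟩)
  simp only [Es, Set.mem_ofPred_eq]
  exact ⟨fun h e he => h e ⟨he.2, he.1⟩, fun h e he => h e ⟨he.2, he.1⟩⟩

end Cfsg.Agent.TwoTransSq.Setup
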