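import Mathlib
import Cfsg.Agent.TwoTransSq.Ends

/-!
# The case in which the two-point stabiliser is transitive on the other classes
-/

set_option autoImplicit false
set_option linter.style.haveILetI false

namespace Cfsg.Agent.TwoTransSq.Setup

open Finset

variable {G Ω : Type*} [Group G] [MulAction G Ω] [Fintype Ω] [DecidableEq Ω] {p : ℕ}
variable (D : Setup G Ω p) [Finite G]

/-- The class of `a` at `b` meets every other class at `a` exactly once. -/
theorem transversal {a b : Ω} (hb : b ≠ a)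
    (htr : ∀ z w, z ≠ a → w ≠ a → z ∉ D.blk a b → w ∉ D.blk a b →
      ∃ e : G, e • a = a ∧ e • b = b ∧ e • z ∈ D.blk a w) :
    (∀ c ∈ D.blk b a, c ≠ a → c ∉ D.blk a b) ∧
      (∀ c c', c ∈ D.blk b a → c ≠ a → c' ∈ D.blk b a → c' ≠ a → c' ∈ D.blk a c → c' = c) ∧
      (∀ z, z ≠ a → z ∉ D.blk a b → ∃ c ∈ D.blk b a, c ≠ a ∧ c ∈ D.blk a z) := by
  classical
  set A := (D.blk b a).erase a with hA
  have hAcard : A.card = p - 1 := by
    rw [hA, card_erase_of_mem (D.mem_self hb.symm), D.card_blk hb.symm]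
  have hb0 : D.blk a b ∈ D.rows a := D.mem_rows.2 ⟨b, hb, rfl⟩
  set A' := A.filter fun c => c ∉ D.blk a b with hA'
  let f : Finset Ω → ℕ := fun R => (A'.filter fun c => D.blk a c = R).card
  have hmap : ∀ c ∈ A', D.blk a c ∈ (D.rows a).erase (D.blk a b) := by
    intro c hc
    obtain ⟨hc1, hc2⟩ := mem_filter.1 hc
    have hca := ne_of_mem_erase hc1
    exact mem_erase.2 ⟨fun he => hc2 (he ▸ D.mem_self hca), D.mem_rows.2 ⟨c, hca, rfl⟩⟩
  have hsum := card_eq_sum_card_fiberwise (f := D.blk a) (s := A')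
    (t := (D.rows a).erase (D.blk a b)) hmap
  have hout : ∀ z, z ≠ a → z ∉ D.blk a b → D.blk a z ∈ (D.rows a).erase (D.blk a b) := fun z hz hzb =>
    mem_erase.2 ⟨fun he => hzb (he ▸ D.mem_self hz), D.mem_rows.2 ⟨z, hz, rfl⟩⟩
  have hle : ∀ z w, z ≠ a → w ≠ a → z ∉ D.blk a b → w ∉ D.blk a b →
      f (D.blk a z) ≤ f (D.blk a w) := by
    intro z w hz hw hzb hwb
    obtain ⟨e, he1, he2, he3⟩ := htr z w hz hw hzb hwb
    refine card_le_card_of_injOn (fun c => e • c) (fun c hc => ?_)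
      (fun c _ c' _ h => MulAction.injective e h)
    simp only [f, mem_coe, mem_filter, hA', hA, mem_erase] at hc ⊢
    obtain ⟨⟨⟨hca, hcb⟩, hcn⟩, hcz⟩ := hc
    have hne : e • c ≠ a := fun h => hca (MulAction.injective e (h.trans he1.symm))
    refine ⟨⟨⟨hne, ?_⟩, fun h => hcn ?_⟩, ?_⟩
    · have := D.smul_mem e hcb; rwa [he1, he2] at this
    · rw [← D.blk_smul_mem e, he1, he2]; exact h
    · have := D.smul_mem e (show c ∈ D.blk a z from hcz ▸ D.mem_self hca)
      rw [he1] at this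
      rw [D.eq_of_mem (fun h => hz (MulAction.injective e (h.trans he1.symm))) this,
        D.eq_of_mem hw he3]
  have hconst : ∀ R ∈ (D.rows a).erase (D.blk a b), ∀ R' ∈ (D.rows a).erase (D.blk a b), f R = f R' := by
    intro R hR R' hR'
    obtain ⟨z, hz, rfl⟩ := D.mem_rows.1 (mem_of_mem_erase hR)
    obtain ⟨w, hw, rfl⟩ := D.mem_rows.1 (mem_of_mem_erase hR')
    have h1 : z ∉ D.blk a b := fun h => ne_of_mem_erase hR (D.eq_of_mem hb h)
    have h2 : w ∉ D.blk a b := fun h => ne_of_mem_erase hR' (D.eq_of_mem hb h)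
    exact le_antisymm (hle z w hz hw h1 h2) (hle w z hw hz h2 h1)
  have hrows : ((D.rows a).erase (D.blk a b)).card = p - 1 := by
    rw [card_erase_of_mem hb0, D.card_rows]
  obtain ⟨R0, hR0⟩ : ((D.rows a).erase (D.blk a b)).Nonempty := by
    rw [← card_pos, hrows]; have := D.prime.two_le; omega
  rw [sum_congr rfl (fun R hR => hconst R hR R0 hR0), sum_const, hrows, smul_eq_mul] at hsum
  have hA'le : A'.card ≤ p - 1 := hAcard ▸ card_filter_le _ _
  have hne0 : f R0 ≠ 0 := by
    intro h0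
    rw [h0, mul_zero] at hsum
    refine D.end1 hb.symm fun z hz hza => ?_
    by_contra hzb
    have : z ∈ A' := mem_filter.2 ⟨mem_erase.2 ⟨hza, hz⟩, hzb⟩
    rw [card_eq_zero.1 hsum] at this
    simp at this
  have hone : f R0 = 1 := by
    by_contra h
    have : (p - 1) * 2 ≤ (p - 1) * f R0 := Nat.mul_le_mul_left _ (by omega)
    have := D.prime.two_le
    omega
  rw [hone, mul_one] at hsum
  have hAA' : A' = A := eq_of_subset_of_card_le (filter_subset _ _) (by omega)
  have hall : ∀ c ∈ D.blk b a, c ≠ a → c ∈ A' := fun c hc hca => by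
    rw [hAA']; exact mem_erase.2 ⟨hca, hc⟩
  refine ⟨fun c hc hca => (mem_filter.1 (hall c hc hca)).2, fun c c' hc hca hc' hc'a he => ?_, ?_⟩
  · have hcR := hmap c (hall c hc hca)
    have h1 : f (D.blk a c) = 1 := (hconst _ hcR R0 hR0).trans hone
    refine card_le_one.1 h1.le c' ?_ c ?_
    · exact mem_filter.2 ⟨hall c' hc' hc'a, D.eq_of_mem hca he⟩
    · exact mem_filter.2 ⟨hall c hc hca, rfl⟩
  · intro z hz hzb
    have h1 : f (D.blk a z) = 1 := (hconst _ (hout z hz hzb) R0 hR0).trans hone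
    obtain ⟨c, hc⟩ := card_pos.1 (show 0 < f (D.blk a z) by omega)
    obtain ⟨hc1, hc2⟩ := mem_filter.1 hc
    obtain ⟨hca, hcb⟩ := mem_erase.1 (mem_filter.1 hc1).1
    exact ⟨c, hcb, hca, hc2 ▸ D.mem_self hca⟩

include D in
/-- The two-point stabiliser is not transitive on the other classes. -/
theorem not_rows_transitive (hp2 : p ≠ 2) {a b : Ω} (hb : b ≠ a)
    (htr : ∀ z w, z ≠ a → w ≠ a → z ∉ D.blk a b → w ∉ D.blk a b →
      ∃ e : G, e • a = a ∧ e • b = b ∧ e • z ∈ D.blk a w) : False := by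
  classical
  haveI := Fintype.ofFinite G
  obtain ⟨hT1, hT2, hT3⟩ := D.transversal hb htr
  by_cases hH : ∃ u ∈ D.Hs a b, u ≠ 1
  · refine D.end_H hb hH fun u hu c hc => ?_
    by_cases hca : c = a
    · rw [hca]; exact hu.1.1
    have h1 := hu.1.2 c hca
    have h2 : u • c ∈ D.blk b a := by
      have := D.smul_mem u hc
      rwa [hu.2, hu.1.1] at this
    exact hT2 c (u • c) hc hca h2 (D.ne_of_mem hca h1) h1
  push Not at hH
  obtain ⟨q, hq, hqp, hq1⟩ := D.exists_q a
  -- a stabiliser element fixing another point of the class is trivial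
  have hE : ∀ e : G, e • a = a → e • b = b → ∀ z ∈ D.blk a b, z ≠ b → e • z = z → e = 1 := by
    intro e hea heb z hz hzb hez
    obtain ⟨j, hjp, hj⟩ := D.exists_pow hq hqp hq1 hb hz
    have hj0 : ¬ p ∣ j := fun hd => hzb (by rw [← hj, (D.q_fix hq hqp hq1 hb j).2 hd])
    have hc : e * q ^ j * e⁻¹ = q ^ j := by
      have h1 := D.conj_mem_ker e ((D.ker a).pow_mem hq j)
      rw [hea] at h1
      have h2 := hH ((q ^ j)⁻¹ * (e * q ^ j * e⁻¹))
        ⟨mul_mem (inv_mem ((D.ker a).pow_mem hq j)) h1, by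
          rw [mul_smul, mul_smul, mul_smul, inv_smul_eq_iff.2 heb.symm, hj, hez, inv_smul_eq_iff]
          exact hj.symm⟩
      exact (inv_mul_eq_one.1 h2).symm
    have hfixB : ∀ w ∈ D.blk a b, e • w = w := by
      intro w hw
      have hpow : ∀ k : ℕ, e • (q ^ j) ^ k • b = (q ^ j) ^ k • b := by
        intro k
        have hck : Commute e (q ^ j) := mul_inv_eq_iff_eq_mul.1 hc
        rw [← mul_smul, (hck.pow_right k).eq, mul_smul, heb]
      obtain ⟨i, hip, rfl⟩ := D.exists_pow hq hqp hq1 hb hw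
      haveI : Fact p.Prime := ⟨D.prime⟩
      have hj' : (j : ZMod p) ≠ 0 := by rwa [Ne, ZMod.natCast_eq_zero_iff]
      obtain ⟨k, hk⟩ : ∃ k, j * k % p = i % p := ⟨((j : ZMod p)⁻¹ * i).val,
        (ZMod.natCast_eq_natCast_iff' _ _ _).1 (by
          rw [Nat.cast_mul, ZMod.natCast_val, ZMod.cast_id, mul_inv_cancel_left₀ hj'])⟩
      have hqi : q ^ i = (q ^ j) ^ k := by
        rw [← pow_mul, ← Nat.mod_add_div i p, ← Nat.mod_add_div (j * k) p, hk, pow_add, pow_add,
          pow_mul, pow_mul, hqp, one_pow, one_pow]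
      rw [hqi]
      exact hpow k
    -- transport to the class of `a` at `b`
    obtain ⟨g, hga, hgb⟩ := D.two hb.symm hb
    have hgi : ∀ w ∈ D.blk b a, (g * e * g⁻¹) • w = w := by
      intro w hw
      have h1 : g⁻¹ • w ∈ D.blk a b := by
        rw [← D.blk_smul_mem g, hga, hgb, smul_inv_smul]; exact hw
      rw [mul_smul, mul_smul, hfixB _ h1, smul_inv_smul]
    have hca : (g * e * g⁻¹) • a = a := hgi a (D.mem_self hb.symm)
    have hcb : (g * e * g⁻¹) • b = b := by
      rw [mul_smul, mul_smul, inv_smul_eq_iff.2 hga.symm, hea, hga]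
    have hker : g * e * g⁻¹ ∈ D.ker a := by
      refine ⟨hca, fun y hy => ?_⟩
      by_cases hyb : y ∈ D.blk a b
      · have := D.smul_mem (g * e * g⁻¹) hyb
        rw [hca, hcb] at this
        rwa [D.eq_of_mem hb hyb]
      · obtain ⟨c, hc, hcne, hcy⟩ := hT3 y hy hyb
        have := D.smul_mem (g * e * g⁻¹) (show y ∈ D.blk a c from
          (D.eq_of_mem hy hcy).symm ▸ D.mem_self hy)
        rw [hca, hgi c hc, D.eq_of_mem hy hcy] at this
        exact this
    have := hH _ ⟨hker, hcb⟩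
    rwa [conj_eq_one_iff] at this
  -- the order of the two-point stabiliser
  let E : Finset G := univ.filter fun e => e • a = a ∧ e • b = b
  obtain ⟨z0, hz0, hz0b⟩ := exists_mem_ne (show 1 < (D.blk a b).card by
    rw [D.card_blk hb]; exact D.prime.one_lt) b
  have hEle : E.card ≤ p - 1 := by
    rw [← D.card_blk hb, ← card_erase_of_mem (D.mem_self hb)]
    refine card_le_card_of_injOn (fun e => e • z0) (fun e he => ?_) (fun e he e' he' h => ?_)
    · obtain ⟨h1, h2⟩ := (mem_filter.1 he).2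
      refine mem_erase.2 ⟨fun h => hz0b (MulAction.injective e (h.trans h2.symm)), ?_⟩
      have := D.smul_mem e hz0
      rwa [h1, h2] at this
    · obtain ⟨h1, h2⟩ := (mem_filter.1 he).2
      obtain ⟨h1', h2'⟩ := (mem_filter.1 he').2
      refine (inv_mul_eq_one.1 (hE (e'⁻¹ * e) ?_ ?_ z0 hz0 hz0b ?_)).symm
      · rw [mul_smul, h1, inv_smul_eq_iff, h1']
      · rw [mul_smul, h2, inv_smul_eq_iff, h2']
      · rw [mul_smul, inv_smul_eq_iff]; exact h
  have hrow : ((D.rows a).erase (D.blk a b)).card = p - 1 := by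
    rw [card_erase_of_mem (D.mem_rows.2 ⟨b, hb, rfl⟩), D.card_rows]
  obtain ⟨R0, hR0⟩ : ((D.rows a).erase (D.blk a b)).Nonempty := by
    rw [← card_pos, hrow]; have := D.prime.two_le; omega
  obtain ⟨y0, hy0, rfl⟩ := D.mem_rows.1 (mem_of_mem_erase hR0)
  have hy0b : y0 ∉ D.blk a b := fun h => ne_of_mem_erase hR0 (D.eq_of_mem hb h)
  have hsurj : Set.SurjOn (fun e : G => D.blk a (e • y0)) E ↑((D.rows a).erase (D.blk a b)) := by
    intro R hR
    obtain ⟨w, hw, rfl⟩ := D.mem_rows.1 (mem_of_mem_erase hR)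
    have hwb : w ∉ D.blk a b := fun h => ne_of_mem_erase hR (D.eq_of_mem hb h)
    obtain ⟨e, h1, h2, h3⟩ := htr y0 w hy0 hw hy0b hwb
    exact ⟨e, mem_filter.2 ⟨mem_univ _, h1, h2⟩, D.eq_of_mem hw h3⟩
  have hEge : p - 1 ≤ E.card := hrow ▸ card_le_card_of_surjOn _ hsurj
  have hEeq : E.card = p - 1 := le_antisymm hEle hEge
  -- an involution
  haveI : Fact (Nat.Prime 2) := ⟨Nat.prime_two⟩
  let Sab : Subgroup G := MulAction.stabilizer G a ⊓ MulAction.stabilizer G b
  have hSab : Nat.card Sab = p - 1 := by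
    rw [← hEeq, ← Nat.card_eq_finsetCard]
    exact Nat.card_congr (Equiv.subtypeEquivRight fun e => by
      simp [Sab, E, Subgroup.mem_inf, MulAction.mem_stabilizer_iff])
  have heven : 2 ∣ Nat.card Sab := by
    rw [hSab]; exact (D.prime.even_sub_one hp2).two_dvd
  obtain ⟨t, ht⟩ := exists_prime_orderOf_dvd_card' 2 heven
  have ht1 : (t : G) ≠ 1 := fun h => by
    rw [(Subtype.ext h : t = 1), orderOf_one] at ht; norm_num at ht
  have htt : (t : G) * t = 1 := by
    have := pow_orderOf_eq_one t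
    rw [ht, sq] at this
    exact congrArg Subtype.val this
  obtain ⟨hta, htb⟩ := Subgroup.mem_inf.1 t.2
  rw [MulAction.mem_stabilizer_iff] at hta htb
  have htfix : ∀ z : Ω, (t : G) • z = z ↔ z = a ∨ z = b := by
    refine fun z => ⟨fun hz => ?_, fun h => by rcases h with rfl | rfl <;> assumption⟩
    by_contra hne
    push Not at hne
    by_cases hzb : z ∈ D.blk a b
    · exact ht1 (hE _ hta htb z hzb hne.2 hz)
    · have hinj : Set.InjOn (fun e : G => D.blk a (e • z)) ↑E := by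
        have hs : Set.SurjOn (fun e : G => D.blk a (e • z)) E ↑((D.rows a).erase (D.blk a b)) := by
          intro R hR
          obtain ⟨w, hw, rfl⟩ := D.mem_rows.1 (mem_of_mem_erase hR)
          have hwb : w ∉ D.blk a b := fun h => ne_of_mem_erase hR (D.eq_of_mem hb h)
          obtain ⟨e, h1, h2, h3⟩ := htr z w hne.1 hw hzb hwb
          exact ⟨e, mem_filter.2 ⟨mem_univ _, h1, h2⟩, D.eq_of_mem hw h3⟩
        refine injOn_of_surjOn_of_card_le _ (fun e he => ?_) hs (by rw [hrow, hEeq])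
        obtain ⟨h1, h2⟩ := (mem_filter.1 he).2
        have hne' : e • z ≠ a := fun h => hne.1 (MulAction.injective e (h.trans h1.symm))
        refine mem_erase.2 ⟨fun hh => hzb ?_, D.mem_rows.2 ⟨_, hne', rfl⟩⟩
        rw [← D.blk_smul_mem e, h1, h2, ← hh]
        exact D.mem_self hne'
      refine ht1 (hinj (mem_filter.2 ⟨mem_univ _, hta, htb⟩)
        (mem_filter.2 ⟨mem_univ _, one_smul _ _, one_smul _ _⟩) ?_)
      simp only [hz, one_smul]
  have hcount := involution_count (G := G) (Ω := Ω) (m := p - 1) (fun x y hxy => ?_)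
    (fun z w hzw => ?_) (by rw [D.card_eq]; have := D.prime.two_le; nlinarith)
  · rw [D.card_eq] at hcount
    have := D.prime.two_le
    have h3 : 3 ≤ p := by omega
    have h4 : 3 * p ≤ p ^ 2 := by rw [sq]; exact Nat.mul_le_mul_right p h3
    omega
  · obtain ⟨g, rfl, rfl⟩ := D.two hb.symm hxy
    refine ⟨g * t * g⁻¹, ?_, fun z => ?_⟩
    · rw [show g * t * g⁻¹ * (g * t * g⁻¹) = g * ((t : G) * t) * g⁻¹ by group, htt, mul_one,
        mul_inv_cancel]
    · rw [mul_smul, mul_smul, smul_eq_iff_eq_inv_smul, htfix, inv_smul_eq_iff, inv_smul_eq_iff]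
  · obtain ⟨g, rfl, rfl⟩ := D.two hb.symm hzw
    rw [← hEeq, ← Nat.card_eq_finsetCard]
    refine le_of_eq (Nat.card_congr ?_)
    refine (Equiv.subtypeEquiv (MulAut.conj g⁻¹).toEquiv fun x => ?_)
    simp [E, mul_smul, smul_eq_iff_eq_inv_smul, inv_smul_eq_iff, eq_comm]

end Cfsg.Agent.TwoTransSq.Setup
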