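import Mathlib
import Cfsg.Agent.TwoTransSq.RowsTransitive
import Cfsg.Agent.TwoTransSq.AffineTrans
import Cfsg.Agent.TwoTransSq.AffineFrob

/-!
# 2-transitive groups of degree `p ^ 2 + 1` are doubly primitive
-/

set_option autoImplicit false
set_option linter.style.haveILetI false

namespace Cfsg.Agent.TwoTransSq

open Finset MulAction
open scoped Pointwise

variable {G Ω : Type*} [Group G] [MulAction G Ω] [Fintype Ω] [DecidableEq Ω] {p : ℕ}

/-- An imprimitive point stabiliser forces `p = 2` and order twenty. -/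
theorem Setup.card_eq_twenty [Finite G] (D : Setup G Ω p) : p = 2 ∧ Nat.card G = 20 := by
  classical
  have hnt : Nontrivial Ω := Fintype.one_lt_card_iff_nontrivial.1 (by
    rw [D.card_eq]; have := D.prime.two_le; nlinarith)
  obtain ⟨a, b, hab⟩ := exists_pair_ne Ω
  by_cases hp2 : p = 2
  · refine ⟨hp2, ?_⟩
    subst hp2
    have hker : Nat.card (D.ker a) ≤ 2 := by
      have hinj : Function.Injective fun n : D.ker a =>
          (⟨(n : G) • b, n.2.2 b hab.symm⟩ : D.blk a b) := by
        intro n m h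
        have h' : (n : G) • b = (m : G) • b := congrArg Subtype.val h
        have h1 : ((m : G)⁻¹ * n) • b = b := by rw [mul_smul, h', inv_smul_smul]
        have hk : (m : G)⁻¹ * n ∈ D.ker a := mul_mem (inv_mem m.2) n.2
        refine Subtype.ext (inv_mul_eq_one.1 (D.faith hab.symm hk fun w hw => ?_)).symm
        by_cases hwb : w = b
        · rw [hwb, h1]
        have hmem : ((m : G)⁻¹ * n) • w ∈ D.blk a b := by
          have := hk.2 w (D.ne_of_mem hab.symm hw)
          rwa [D.eq_of_mem hab.symm hw] at this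
        have hcard : ((D.blk a b).erase b).card ≤ 1 := by
          rw [card_erase_of_mem (D.mem_self hab.symm), D.card_blk hab.symm]
        refine card_le_one.1 hcard _ (mem_erase.2 ⟨fun he => hwb ?_, hmem⟩) _ (mem_erase.2 ⟨hwb, hw⟩)
        exact MulAction.injective ((m : G)⁻¹ * n) (he.trans h1.symm)
      refine (Nat.card_le_card_of_injective _ hinj).trans ?_
      rw [Nat.card_eq_finsetCard, D.card_blk hab.symm]
    set ρ := MulAction.toPermHom (MulAction.stabilizer G a) (D.Row a)
    have h1 : Nat.card ρ.ker ≤ 2 := by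
      refine le_trans (Nat.card_le_card_of_injective
        (fun x => (⟨((x : MulAction.stabilizer G a) : G),
          D.mem_ker_iff_rows.2 fun R => Equiv.ext_iff.1 (MonoidHom.mem_ker.1 x.2) R⟩ : D.ker a))
        fun x y h => ?_) hker
      exact Subtype.ext (Subtype.ext (congrArg (fun z : D.ker a => (z : G)) h))
    have h2 : Nat.card ρ.range ≤ 2 := by
      refine le_trans (Nat.le_of_dvd Nat.card_pos (Subgroup.card_subgroup_dvd_card ρ.range)) ?_
      rw [Nat.card_perm, Nat.card_eq_fintype_card, Fintype.card_coe, D.card_rows]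
      rfl
    have h3 := D.card_stab_dvd a
    have h4 : Nat.card (MulAction.stabilizer G a) = 4 := by
      have h5 := ρ.ker.card_mul_index
      rw [Subgroup.index_ker] at h5
      have h6 : Nat.card (MulAction.stabilizer G a) ≤ 2 * 2 := h5 ▸ Nat.mul_le_mul h1 h2
      have h7 := Nat.le_of_dvd Nat.card_pos h3
      exact le_antisymm h6 h7
    haveI : MulAction.IsPretransitive G Ω := ⟨fun x y => by
      by_cases hxy : x = y
      · exact ⟨1, by rw [one_smul, hxy]⟩
      · obtain ⟨g, h, -⟩ := D.two hxy (Ne.symm hxy)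
        exact ⟨g, h⟩⟩
    rw [← (MulAction.stabilizer G a).card_mul_index, h4, MulAction.index_stabilizer_of_transitive,
      Nat.card_eq_fintype_card, D.card_eq]
    norm_num
  exfalso
  have hb : b ≠ a := hab.symm
  rcases D.rows_dichotomy hb with htr | haff
  · exact D.not_rows_transitive hp2 hb htr
  · rcases D.blk_dichotomy hb with htwo | ⟨hfree, hcomm⟩
    · exact D.not_ker_two hp2 hb haff htwo
    · exact Setup.not_frob hp2 (D := D) ⟨hb, haff, hfree, hcomm⟩

/-- A nontrivial block of the point stabiliser gives the setting. -/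
theorem exists_setup [Finite G] [FaithfulSMul G Ω] (hp : p.Prime)
    (hΩ : Fintype.card Ω = p ^ 2 + 1) (h2 : IsMultiplyPretransitive G Ω 2) (a : Ω)
    (hnp : ¬ IsPreprimitive ↥(stabilizer G a) ↥(SubMulAction.ofStabilizer G a)) :
    Nonempty (Setup G Ω p) := by
  classical
  haveI := h2
  have htwo : ∀ {x y u v : Ω}, x ≠ y → u ≠ v → ∃ g : G, g • x = u ∧ g • y = v := fun h h' => by
    simpa using (is_two_pretransitive_iff.1 h2) h h'
  haveI hGt : IsPretransitive G Ω := isPretransitive_of_is_two_pretransitive (h2 := h2)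
  set K := stabilizer G a with hK
  set X := SubMulAction.ofStabilizer G a
  haveI hXt : IsPretransitive K X := ⟨fun x y => by
    have hx : (x : Ω) ≠ a := (SubMulAction.mem_ofStabilizer_iff G a).1 x.2
    have hy : (y : Ω) ≠ a := (SubMulAction.mem_ofStabilizer_iff G a).1 y.2
    obtain ⟨g, h1, h3⟩ := htwo hx.symm hy.symm
    exact ⟨⟨g, MulAction.mem_stabilizer_iff.2 h1⟩, Subtype.ext h3⟩⟩
  obtain ⟨B, hB, hBnt⟩ : ∃ B : Set X, IsBlock K B ∧ ¬ IsTrivialBlock B := by
    by_contra h
    push Not at h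
    exact hnp { isTrivialBlock_of_isBlock := fun {B} hB => h B hB }
  simp only [IsTrivialBlock, not_or] at hBnt
  obtain ⟨hB1, hB2⟩ := hBnt
  have hBne : B.Nonempty := by
    by_contra h
    rw [Set.not_nonempty_iff_eq_empty] at h
    exact hB1 (h ▸ Set.subsingleton_empty)
  letI : Fintype X := Fintype.ofFinite X
  have hcardX : Nat.card X = p ^ 2 := by
    have : Nat.card X + 1 = p ^ 2 + 1 := by
      rw [SubMulAction.nat_card_ofStabilizer_add_one_eq, Nat.card_eq_fintype_card, hΩ]
    omega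
  have hBcard : B.ncard = p := by
    have hd := hB.ncard_dvd_card hBne
    rw [hcardX] at hd
    obtain ⟨i, hi, h⟩ := (Nat.dvd_prime_pow hp).1 hd
    interval_cases i
    · exact absurd (Set.ncard_le_one_iff_subsingleton.1 (le_of_eq (by simpa using h))) hB1
    · simpa using h
    · refine absurd (Set.eq_of_subset_of_ncard_le (Set.subset_univ B) ?_) hB2
      rw [Set.ncard_univ, hcardX, h]
  let B' : Set Ω := (Subtype.val : X → Ω) '' B
  have hB'a : a ∉ B' := by
    rintro ⟨x, -, hx⟩
    exact (SubMulAction.mem_ofStabilizer_iff G a).1 x.2 hx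
  -- the block property
  have hblock : ∀ g : G, g • a = a → ∀ x ∈ B', g • x ∈ B' → ∀ y ∈ B', g • y ∈ B' := by
    rintro g hg _ ⟨x, hx, rfl⟩ ⟨x', hx', hxx'⟩ _ ⟨y, hy, rfl⟩
    let k : K := ⟨g, MulAction.mem_stabilizer_iff.2 hg⟩
    have h1 : k • B = B := hB.smul_eq_of_mem hx (by
      rwa [show k • x = x' from Subtype.ext hxx'.symm])
    exact ⟨k • y, by rw [← h1]; exact Set.smul_mem_smul_set hy, rfl⟩
  let R : Ω → Ω → Ω → Prop := fun x y z =>
    z ≠ x ∧ ∃ g : G, g • x = a ∧ g • y ∈ B' ∧ g • z ∈ B'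
  have hblk : ∀ (g h : G) (x y z : Ω), g • x = a → h • x = a → g • y ∈ B' → h • y ∈ B' →
      g • z ∈ B' → h • z ∈ B' := by
    intro g h x y z hg hh hgy hhy hgz
    have := hblock (h * g⁻¹) (by rw [mul_smul, inv_smul_eq_iff.2 hg.symm, hh]) (g • y) hgy
      (by rwa [mul_smul, inv_smul_smul]) (g • z) hgz
    rwa [mul_smul, inv_smul_smul] at this
  have hRbase : ∀ {x y : Ω}, y ≠ x → ∃ g : G, g • x = a ∧ g • y ∈ B' := by
    intro x y hxy
    obtain ⟨c, hc⟩ := hBne
    obtain ⟨g, h1, h2⟩ := htwo hxy.symm (show a ≠ (c : Ω) from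
      ((SubMulAction.mem_ofStabilizer_iff G a).1 c.2).symm)
    exact ⟨g, h1, h2 ▸ ⟨c, hc, rfl⟩⟩
  refine ⟨{
    blk := fun x y => univ.filter (R x y)
    prime := hp
    card_eq := hΩ
    faithful := fun g hg => eq_of_smul_eq_smul fun z : Ω => by rw [hg z, one_smul]
    two := htwo
    mem_self := fun {x y} hxy => by
      obtain ⟨g, h1, h2⟩ := hRbase hxy
      exact mem_filter.2 ⟨mem_univ _, hxy, g, h1, h2, h2⟩
    ne_of_mem := fun {x y z} _ hz => (mem_filter.1 hz).2.1
    eq_of_mem := fun {x y z} hxy hz => ?_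
    card_blk := fun {x y} hxy => ?_
    smul_mem := fun g {x y z} hz => ?_ }⟩
  · obtain ⟨-, hzx, g, hgx, hgy, hgz⟩ := mem_filter.1 hz
    ext w
    simp only [mem_filter, mem_univ, true_and, R]
    constructor
    · rintro ⟨hw, h, hhx, hhz, hhw⟩
      exact ⟨hw, g, hgx, hgy, hblk h g x z w hhx hgx hhz hgz hhw⟩
    · rintro ⟨hw, h, hhx, hhy, hhw⟩
      exact ⟨hw, g, hgx, hgz, hblk h g x y w hhx hgx hhy hgy hhw⟩
  · obtain ⟨g, hgx, hgy⟩ := hRbase hxy
    rw [← hBcard, ← Set.ncard_image_of_injective B (Subtype.val_injective), ← Set.ncard_coe_finset]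
    refine Set.ncard_congr (fun z _ => g • z) (fun z hz => ?_)
      (fun z z' _ _ h => MulAction.injective g h) (fun w hw => ⟨g⁻¹ • w, ?_, smul_inv_smul g w⟩)
    · simp only [coe_filter, mem_univ, true_and, Set.mem_ofPred_eq, R] at hz
      obtain ⟨-, h, hhx, hhy, hhz⟩ := hz
      exact hblk h g x y z hhx hgx hhy hgy hhz
    · simp only [coe_filter, mem_univ, true_and, Set.mem_ofPred_eq, R]
      refine ⟨fun he => hB'a ?_, g, hgx, hgy, by rwa [smul_inv_smul]⟩
      rwa [← hgx, ← he, smul_inv_smul]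
  · obtain ⟨-, hzx, h, hhx, hhy, hhz⟩ := mem_filter.1 hz
    refine mem_filter.2 ⟨mem_univ _, fun he => hzx (MulAction.injective g he), h * g⁻¹, ?_, ?_, ?_⟩
    all_goals rw [mul_smul, inv_smul_smul]
    exacts [hhx, hhy, hhz]

end Cfsg.Agent.TwoTransSq
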